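import Groth.Agent.ProjDual.K274.SerreRes
import Groth.Agent.PerfB.TwistDer
import Groth.Agent.PerfA.CohSerre
import Groth.Agent.S0844

/-!
# `Ext` out of twisting sheaves on `P^n_A`

* `nonempty_ext_tw`: `Ext^i(O(-d), M) ≃ₗ H^i(P^n, M(d))`;
* `nonempty_ext_tw_tw`: `Ext^i(O(a), O(b)) ≃ₗ H^i(P^n, O(b-a))`.
-/

set_option autoImplicit false
universe w u

open CategoryTheory CategoryTheory.Limits AlgebraicGeometry Abelian

namespace K274.PnTwist

open Groth.Agent Groth.Agent.Sga2.PnHHDelta Groth.Agent.PerfB.TwistDer K274.YonedaDual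

variable (n : ℕ) (A : Type u) [CommRing A]

/-- `O(d) ⊗ O(e) ≅ O` for `d + e = 0`. -/
noncomputable def twInv (d e : ℤ) (h : d + e = 0) :
    CohB1.tensorMod (tw n A d) (tw n A e) ≅ Coh.structureModule (CohB1.ProjSpace n A) :=
  twMul n A d e 0 h ≪≫ (twZero n A).symm

theorem isCoh_tw (d : ℤ) : Coh.IsCoh (tw n A d) :=
  PerfA.CohSerre.isCoh_of_isFinLocFree (Ega2.QCohLocal.isFinLocFree_of_rank
    (Ega2.QCohLocal.isFinLocFreeOfRank_one_iff.mpr (isInvertible_tw n A d)))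

variable [HasExt.{w} (CohB1.ProjSpace n A).Modules]

theorem nonempty_ext_tw (d e : ℤ) (h : d + e = 0) (M : (CohB1.ProjSpace n A).Modules) (i : ℕ) :
    Nonempty (Ext.{w} (tw n A e) M i ≃ₗ[A] (hF A (CohB1.ProjSpace n A) i).obj (CohB1.tensorMod M (tw n A d))) :=
  TensLin.nonempty_extInv A (twInv n A d e h) M i

theorem nonempty_ext_tw_tw (a b c : ℤ) (h : a + c = b) (i : ℕ) :
    Nonempty (Ext.{w} (tw n A a) (tw n A b) i ≃ₗ[A] (hF A (CohB1.ProjSpace n A) i).obj (tw n A c)) := by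
  obtain ⟨e⟩ := nonempty_ext_tw n A (-a) a (by omega) (tw n A b) i
  exact ⟨e.trans ((hF A (CohB1.ProjSpace n A) i).mapIso (twMul n A b (-a) c (by omega))).toLinearEquiv⟩

theorem subsingleton_ext_tw_tw (a b : ℤ) (i : ℕ) (h₀ : ¬ (i = 0 ∧ a ≤ b)) (hn : ¬ (i = n ∧ b - a ≤ -((n : ℤ) + 1))) :
    Subsingleton (Ext.{w} (tw n A a) (tw n A b) i) := by
  obtain ⟨e⟩ := nonempty_ext_tw_tw.{w} n A a b (b - a) (by omega) i
  have : Subsingleton ((hF A (CohB1.ProjSpace n A) i).obj (tw n A (b - a))) :=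
    S0844.result A n (b - a) i (by omega) hn
  exact e.toEquiv.subsingleton

theorem subsingleton_ext_unit_tw (b : ℤ) (i : ℕ) (h₀ : ¬ (i = 0 ∧ 0 ≤ b)) (hn : ¬ (i = n ∧ b ≤ -((n : ℤ) + 1))) :
    Subsingleton (Ext.{w} (Coh.structureModule (CohB1.ProjSpace n A)) (tw n A b) i) := by
  have : Subsingleton ((hF A (CohB1.ProjSpace n A) i).obj (tw n A b)) := S0844.result A n b i h₀ hn
  exact (ExtLin.eH A (tw n A b) i).toEquiv.subsingleton

end K274.PnTwist
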