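import Groth.Agent.ProjDual.K274.PartRes
import Mathlib.CategoryTheory.Abelian.RightDerived
import Mathlib.Algebra.Homology.ShortComplex.PreservesHomology

/-!
# `Ext` and adjunctions, with a shift

`L ⊣ G` is an adjunction between `R`-linear abelian categories, `L` linear and preserving monomorphisms, `M` an object of the
target with an injective resolution `J`; the cohomology objects of the complex `G(J)` are the `R^q G(M)`.

* `homShift`: if `R^q G(M) = 0` for `q < c` and `ω = R^c G(M)` then `Hom(N, ω) ≃ₗ Ext^c(L N, M)`, naturally in `N`;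
* `nonempty_extShift`: if moreover `R^q G(M) = 0` for `c < q ≤ c + i` then `Ext^i(N, ω) ≃ₗ Ext^{c+i}(L N, M)`;
* `nonempty_extAdj`: if `G` is exact then `Ext^i(N, G M) ≃ₗ Ext^i(L N, M)`.
-/

set_option autoImplicit false

universe t w w' v v' u u'

open CategoryTheory Limits Abelian

namespace K274.Shift

open K274.PartRes

variable {R : Type t} [CommRing R] {C : Type u} [Category.{v} C] [Abelian C] [Linear R C] [HasExt.{w} C]
  {D : Type u'} [Category.{v'} D] [Abelian D] [Linear R D] [HasExt.{w'} D] {L : C ⥤ D} {G : D ⥤ C} [L.Additive]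
  [L.Linear R] [G.Additive] [L.PreservesMonomorphisms] (adj : L ⊣ G) {M : D} (J : InjectiveResolution M)

/-- The complex `G(J)`. -/
noncomputable abbrev cx (G : D ⥤ C) [G.Additive] {M : D} (J : InjectiveResolution M) : CochainComplex C ℕ :=
  (G.mapHomologicalComplex (ComplexShape.up ℕ)).obj J.cocomplex

omit [Linear R C] [HasExt.{w} C] [Linear R D] [HasExt.{w'} D] [L.Additive] [L.Linear R] in
include adj in
theorem injective_cx (j : ℕ) : Injective ((cx G J).X j) := Injective.injective_of_adjoint adj (J.cocomplex.X j)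

section Hom

variable (c : ℕ) (hlow : ∀ q, q < c → (cx G J).ExactAt q) {ω : C} (e : (cx G J).homology c ≅ ω)

variable (R) in
/-- `Hom(N, R^c G(M)) ≃ₗ Ext^c(L N, M)`. -/
noncomputable def homShift (N : C) : (N ⟶ ω) ≃ₗ[R] Ext (L.obj N) M c :=
  haveI := injective_cx adj J
  (presZero (R := R) (cx G J) c hlow e N).equiv
    ((presExt (R := R) (L.obj N) M J c).comap (adjZ R adj J.cocomplex N c)
      (fun x => isB_adjZ adj J.cocomplex N c x))

omit [HasExt.{w} C] in
theorem homShift_naturality {N N' : C} (g : N' ⟶ N) (f : N ⟶ ω) :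
    homShift R adj J c hlow e N' (g ≫ f) = (Ext.mk₀ (L.map g)).comp (homShift R adj J c hlow e N f) (zero_add c) := by
  haveI := injective_cx adj J
  obtain ⟨z, rfl⟩ := (presZero (R := R) (cx G J) c hlow e N).surj f
  let z' : Z R (cx G J) N' c := ⟨g ≫ z.1, by rw [mem_Z, Category.assoc, show z.1 ≫ _ = 0 from z.2, comp_zero]⟩
  have h1 : (presZero (R := R) (cx G J) c hlow e N').φ z' = g ≫ (presZero (R := R) (cx G J) c hlow e N).φ z :=
    cls_naturality (cx G J) c e g z z' rfl
  rw [← h1, homShift, homShift, Pres.equiv_φ, Pres.equiv_φ]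
  change J.extMk (adjZ R adj J.cocomplex N' c z').1 (c + 1) rfl (adjZ R adj J.cocomplex N' c z').2 =
    (Ext.mk₀ (L.map g)).comp (J.extMk (adjZ R adj J.cocomplex N c z).1 (c + 1) rfl (adjZ R adj J.cocomplex N c z).2) _
  rw [J.mk₀_comp_extMk]
  congr 1
  exact Adjunction.homEquiv_naturality_left_symm adj g z.1

end Hom

include adj in
/-- `Ext^i(N, R^c G(M)) ≃ₗ Ext^{c+i}(L N, M)` if `R^q G(M) = 0` for the other `q ≤ c + i`. -/
theorem nonempty_extShift (c i n : ℕ) (hn : c + i = n) (hlow : ∀ q, q < c → (cx G J).ExactAt q)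
    (hhigh : ∀ q, c < q → q ≤ n → (cx G J).ExactAt q) {ω : C} (e : (cx G J).homology c ≅ ω) (N : C) :
    Nonempty (Ext N ω i ≃ₗ[R] Ext (L.obj N) M n) := by
  haveI := injective_cx adj J
  obtain ⟨P⟩ := nonempty_presH (R := R) (cx G J) N c i n hn hlow hhigh e
  exact ⟨P.equiv ((presExt (R := R) (L.obj N) M J n).comap (adjZ R adj J.cocomplex N n)
      (fun x => isB_adjZ adj J.cocomplex N n x))⟩

omit [Linear R C] [HasExt.{w} C] [Linear R D] [HasExt.{w'} D] [L.Additive] [L.Linear R] [L.PreservesMonomorphisms]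
  [G.Additive] in
/-- An injective resolution is exact in positive degrees. -/
theorem exactAt_cocomplex (q : ℕ) (hq : 0 < q) : J.cocomplex.ExactAt q := by
  obtain ⟨q, rfl⟩ := Nat.exists_eq_succ_of_ne_zero hq.ne'
  exact J.cocomplex_exactAt_succ q

omit [HasExt.{w} C] [HasExt.{w'} D] [Linear R C] [Linear R D] in
/-- Exact functors preserve exactness of complexes. -/
theorem exactAt_map {C : Type u} [Category.{v} C] [Abelian C] {D : Type u'} [Category.{v'} D] [Abelian D]
    (F : C ⥤ D) [F.Additive] [PreservesFiniteLimits F] [PreservesFiniteColimits F] {K : CochainComplex C ℕ} {q : ℕ}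
    (h : K.ExactAt q) : ((F.mapHomologicalComplex (ComplexShape.up ℕ)).obj K).ExactAt q := by
  have h' : (K.sc q).Exact := h
  exact h'.map F

/-- Exact functors and cohomology objects. -/
noncomputable def homologyMapIso {C : Type u} [Category.{v} C] [Abelian C] {D : Type u'} [Category.{v'} D] [Abelian D]
    (F : C ⥤ D) [F.Additive] [PreservesFiniteLimits F] [PreservesFiniteColimits F] (K : CochainComplex C ℕ) (q : ℕ) :
    ((F.mapHomologicalComplex (ComplexShape.up ℕ)).obj K).homology q ≅ F.obj (K.homology q) :=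
  (K.sc q).mapHomologyIso F

/-- `H^0(G(J)) ≅ G(M)` for `G` left exact. -/
noncomputable def homologyZeroIso {C : Type u} [Category.{v} C] [Abelian C] {D : Type u'} [Category.{v'} D] [Abelian D]
    [EnoughInjectives D] (G : D ⥤ C) [G.Additive] [PreservesFiniteLimits G] {M : D} (J : InjectiveResolution M) :
    (cx G J).homology 0 ≅ G.obj M :=
  (J.isoRightDerivedObj G 0).symm ≪≫ G.rightDerivedZeroIsoSelf.app M

include adj in
/-- `Ext^i(N, G M) ≃ₗ Ext^i(L N, M)` for an exact right adjoint `G`. -/
theorem nonempty_extAdj [EnoughInjectives D] [PreservesFiniteLimits G] [PreservesFiniteColimits G] (N : C) (M : D)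
    (i : ℕ) : Nonempty (Ext N (G.obj M) i ≃ₗ[R] Ext (L.obj N) M i) := by
  let J : InjectiveResolution M := injectiveResolution M
  exact nonempty_extShift adj J 0 i i (zero_add i) (fun q hq => absurd hq (Nat.not_lt_zero q))
    (fun q hq _ => exactAt_map G (exactAt_cocomplex J q hq)) (homologyZeroIso G J) N

end K274.Shift
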