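import Groth.Agent.ProjDual.K274.ExtLin
import Groth.Agent.ProjDual.K274.Shift
import Groth.Agent.Ega3B.TensorAUnit
import Groth.Agent.PerfB.TensInv
import Groth.Agent.Ega2.TensMon

/-!
# Tensor products with invertible modules and linear `Ext`

`X` is a scheme over `A`, `L ⊗ L' ≅ O_X`.

* `linear_tensorRightMod`: `- ⊗ M` is `A`-linear;
* `nonempty_extTwist`: `Ext^i(N, M ⊗ L) ≃ₗ Ext^i(N ⊗ L', M)`;
* `nonempty_extInv`: `Ext^i(L', M) ≃ₗ H^i(X, M ⊗ L)`.
-/

set_option autoImplicit false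
universe w u

open CategoryTheory CategoryTheory.Limits AlgebraicGeometry Abelian

namespace K274.TensLin

open Groth.Agent

variable (A : Type u) [CommRing A] {X : Scheme.{u}} [X.Over (Spec (CommRingCat.of A))]

theorem linear_tensorRightMod (M : X.Modules) : (DCoh.tensorRightMod M).Linear A where
  map_smul {N N'} f a := by
    rw [KLin.smul_def, KLin.smul_def, Functor.map_comp, Ega3B.TensorAUnit.tensorRightMod_map_smul]

/-- `Ext` and isomorphisms in the first variable. -/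
theorem nonempty_extIsoLeft [HasExt.{w} X.Modules] {N N' : X.Modules} (e : N ≅ N') (M : X.Modules) (i : ℕ) :
    Nonempty (Ext.{w} N M i ≃ₗ[A] Ext.{w} N' M i) :=
  ⟨LinearEquiv.ofLinear (Ext.precompOfLinear (Ext.mk₀ e.inv) A M (zero_add i))
      (Ext.precompOfLinear (Ext.mk₀ e.hom) A M (zero_add i))
      (LinearMap.ext fun x => by
        change (Ext.mk₀ e.inv).comp ((Ext.mk₀ e.hom).comp x (zero_add i)) (zero_add i) = x
        rw [Ext.mk₀_comp_mk₀_assoc, e.inv_hom_id, Ext.mk₀_id_comp])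
      (LinearMap.ext fun x => by
        change (Ext.mk₀ e.hom).comp ((Ext.mk₀ e.inv).comp x (zero_add i)) (zero_add i) = x
        rw [Ext.mk₀_comp_mk₀_assoc, e.hom_inv_id, Ext.mk₀_id_comp])⟩

theorem nonempty_extIsoRight [HasExt.{w} X.Modules] {M M' : X.Modules} (N : X.Modules) (e : M ≅ M') (i : ℕ) :
    Nonempty (Ext.{w} N M i ≃ₗ[A] Ext.{w} N M' i) :=
  ⟨LinearEquiv.ofLinear (Ext.postcompOfLinear (Ext.mk₀ e.hom) A N (add_zero i))
      (Ext.postcompOfLinear (Ext.mk₀ e.inv) A N (add_zero i))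
      (LinearMap.ext fun x => by
        change (x.comp (Ext.mk₀ e.inv) (add_zero i)).comp (Ext.mk₀ e.hom) (add_zero i) = x
        rw [Ext.comp_assoc_of_third_deg_zero, Ext.mk₀_comp_mk₀, e.inv_hom_id, Ext.comp_mk₀_id])
      (LinearMap.ext fun x => by
        change (x.comp (Ext.mk₀ e.hom) (add_zero i)).comp (Ext.mk₀ e.inv) (add_zero i) = x
        rw [Ext.comp_assoc_of_third_deg_zero, Ext.mk₀_comp_mk₀, e.hom_inv_id, Ext.comp_mk₀_id])⟩

variable {L L' : X.Modules} (e : CohB1.tensorMod L L' ≅ Coh.structureModule X)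

include e in
/-- `Ext^i(N, M ⊗ L) ≃ₗ Ext^i(N ⊗ L', M)` for `L ⊗ L' ≅ O_X`. -/
theorem nonempty_extTwist [HasExt.{w} X.Modules] (N M : X.Modules) (i : ℕ) :
    Nonempty (Ext.{w} N (CohB1.tensorMod M L) i ≃ₗ[A] Ext.{w} (CohB1.tensorMod N L') M i) := by
  let E : X.Modules ≌ X.Modules :=
    CategoryTheory.Equivalence.mk (DCoh.tensorRightMod L') (DCoh.tensorRightMod L)
      (PerfB.TensInv.tensorInvIso (Ega2.Tens.swap L' L ≪≫ e)).symm (PerfB.TensInv.tensorInvIso e)
  have h1 : (DCoh.tensorRightMod L').IsEquivalence := inferInstanceAs E.functor.IsEquivalence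
  have h2 : (DCoh.tensorRightMod L).IsEquivalence := inferInstanceAs E.inverse.IsEquivalence
  have := linear_tensorRightMod A L'
  have := CurvesC.ExtUnit.enoughInjectives_modules X
  exact Shift.nonempty_extAdj (R := A) (L := DCoh.tensorRightMod L') (G := DCoh.tensorRightMod L) E.toAdjunction N M i

include e in
/-- `Ext^i(L', M) ≃ₗ H^i(X, M ⊗ L)` for `L ⊗ L' ≅ O_X`. -/
theorem nonempty_extInv [HasExt.{w} X.Modules] (M : X.Modules) (i : ℕ) :
    Nonempty (Ext.{w} L' M i ≃ₗ[A] (Sga2.PnHHDelta.hF A X i).obj (CohB1.tensorMod M L)) := by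
  obtain ⟨e1⟩ := nonempty_extTwist A e (Coh.structureModule X) M i
  obtain ⟨e2⟩ := nonempty_extIsoLeft A (Ega2.Tens.lunit L').symm M i
  exact ⟨(e2.trans e1.symm).trans (ExtLin.eH A _ i)⟩

end K274.TensLin
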