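import Groth.Agent.ProjDual.K274.Shift

/-!
# Complexes of acyclic objects with acyclic cohomology

`O` is an object of an abelian category; `Y` is acyclic if `Ext^a(O, Y) = 0` for all `a > 0`.

* `nonempty_equiv`: if `L ⊣ G`, `M` has the injective resolution `J`, the `G(J^j)` are acyclic and the `H^q(G(J))`, `q < n`, are
  acyclic, then `Ext^n(L O, M) ≃ₗ Hom(O, H^n(G(J)))`.
-/

set_option autoImplicit false

universe t w w' v v' u u'

open CategoryTheory Limits Abelian

namespace K274.AcycPres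

open K274.PartRes K274.Shift

section Acyc

variable {C : Type u} [Category.{v} C] [Abelian C] [HasExt.{w} C] (O : C)

/-- `Ext^a(O, Y) = 0` for `a > 0`. -/
def Acyc (Y : C) : Prop := ∀ a : ℕ, 0 < a → Subsingleton (Ext.{w} O Y a)

variable {O}

theorem Acyc.of_isZero {Y : C} (h : IsZero Y) : Acyc.{w} O Y := fun a _ =>
  ⟨fun x y => by
    have h1 : ∀ z : Ext.{w} O Y a, z = 0 := fun z => by
      rw [← Ext.comp_mk₀_id z, h.eq_of_src (𝟙 Y) 0, Ext.mk₀_zero, Ext.comp_zero]
    rw [h1 x, h1 y]⟩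

theorem Acyc.of_iso {Y Y' : C} (e : Y ≅ Y') (h : Acyc.{w} O Y) : Acyc.{w} O Y' := fun a ha =>
  ⟨fun x y => by
    have h1 : ∀ z : Ext.{w} O Y' a, z = 0 := fun z => by
      have h2 := (h a ha).elim (z.comp (Ext.mk₀ e.inv) (add_zero a)) 0
      rw [← Ext.comp_mk₀_id z, ← e.inv_hom_id, ← Ext.mk₀_comp_mk₀, ← Ext.comp_assoc_of_third_deg_zero, h2,
        Ext.zero_comp]
    rw [h1 x, h1 y]⟩

theorem Acyc.two {S : ShortComplex C} (hS : S.ShortExact) (h1 : Acyc.{w} O S.X₁) (h3 : Acyc.{w} O S.X₃) :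
    Acyc.{w} O S.X₂ := fun a ha => by
  have hz : ∀ z : Ext.{w} O S.X₂ a, z = 0 := fun z => by
    obtain ⟨y, rfl⟩ := Ext.covariant_sequence_exact₂ O hS z ((h3 a ha).elim _ _)
    rw [(h1 a ha).elim y 0, Ext.zero_comp]
  exact ⟨fun x y => by rw [hz x, hz y]⟩

theorem Acyc.three {S : ShortComplex C} (hS : S.ShortExact) (h1 : Acyc.{w} O S.X₁) (h2 : Acyc.{w} O S.X₂) :
    Acyc.{w} O S.X₃ := fun a ha => by
  have hz : ∀ z : Ext.{w} O S.X₃ a, z = 0 := fun z => by
    obtain ⟨y, rfl⟩ := Ext.covariant_sequence_exact₃ O hS z (n₁ := a + 1) rfl ((h1 (a + 1) (by omega)).elim _ _)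
    rw [(h2 a ha).elim y 0, Ext.zero_comp]
  exact ⟨fun x y => by rw [hz x, hz y]⟩

/-- Maps out of `O` lift along an epimorphism with acyclic kernel. -/
theorem exists_lift {S : ShortComplex C} (hS : S.ShortExact) (h1 : Acyc.{w} O S.X₁) (f : O ⟶ S.X₃) :
    ∃ g : O ⟶ S.X₂, g ≫ S.g = f := by
  obtain ⟨y, hy⟩ := Ext.covariant_sequence_exact₃ O hS (Ext.mk₀ f) (n₁ := 1) rfl ((h1 1 Nat.one_pos).elim _ _)
  obtain ⟨y, rfl⟩ := Ext.homEquiv₀.symm.surjective y
  refine ⟨y, Ext.homEquiv₀.symm.injective ?_⟩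
  change Ext.mk₀ (y ≫ S.g) = Ext.mk₀ f
  rw [← hy, ← Ext.mk₀_comp_mk₀]
  rfl

variable (K : CochainComplex C ℕ) (hK : ∀ j, Acyc.{w} O (K.X j))

include hK

theorem acyc_bd_cycles (c : ℕ) (hH : ∀ q, q < c → Acyc.{w} O (K.homology q)) :
    ∀ q, (q ≤ c → Acyc.{w} O (bd K q)) ∧ (q < c → Acyc.{w} O (K.cycles q)) := by
  have step : ∀ q, Acyc.{w} O (bd K q) → q < c → Acyc.{w} O (K.cycles q) := fun q hb hq =>
    Acyc.two (shortExact_bd K q) hb (hH q hq)
  intro q
  induction q with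
  | zero => exact ⟨fun _ => Acyc.of_isZero (isZero_bd_zero K), fun hq => step 0 (Acyc.of_isZero (isZero_bd_zero K)) hq⟩
  | succ q ih =>
    have h1 : q + 1 ≤ c → Acyc.{w} O (bd K (q + 1)) := fun h =>
      Acyc.three (shortExact_toBd K q) (ih.2 (by omega)) (hK q)
    exact ⟨h1, fun hq => step (q + 1) (h1 hq.le) hq⟩

/-- Maps to the boundaries lift. -/
theorem exists_lift_bd (c : ℕ) (hH : ∀ q, q < c → Acyc.{w} O (K.homology q)) (f : O ⟶ bd K c) :
    IsB K O c (f ≫ kernel.ι _ ≫ K.iCycles c) := by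
  cases c with
  | zero => rw [isB_zero_iff, (isZero_bd_zero K).eq_of_tgt f 0, zero_comp]
  | succ c =>
    obtain ⟨g, hg⟩ := exists_lift (shortExact_toBd K c) ((acyc_bd_cycles K hK (c + 1) hH c).2 (Nat.lt_succ_self c)) f
    rw [isB_succ_iff]
    refine ⟨g, ?_⟩
    rw [← toBd_ι_i, ← Category.assoc]
    exact congrArg (· ≫ _) hg

variable (R : Type t) [CommRing R] [Linear R C]

/-- `Hom(O, H^c(K))` is presented by the cocycles of degree `c`. -/
noncomputable def presAcyc (c : ℕ) (hH : ∀ q, q < c → Acyc.{w} O (K.homology q)) {ω : C} (e : K.homology c ≅ ω) :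
    Pres R K O c (O ⟶ ω) where
  φ := cls K R c e O
  surj f := by
    obtain ⟨g, hg⟩ := exists_lift (shortExact_bd K c) ((acyc_bd_cycles K hK c hH c).1 le_rfl) (f ≫ e.inv)
    refine ⟨⟨g ≫ K.iCycles c, by rw [mem_Z, Category.assoc, K.iCycles_d, comp_zero]⟩, ?_⟩
    have h1 : K.liftCycles (g ≫ K.iCycles c) (c + 1) (by simp) (by simp) = g := by
      rw [← cancel_mono (K.iCycles c), K.liftCycles_i]
    change g ≫ K.homologyπ c = f ≫ e.inv at hg
    rw [cls_apply, h1, ← Category.assoc, hg, Category.assoc, e.inv_hom_id, Category.comp_id]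
  ker_iff z := by
    rw [cls_apply]
    constructor
    · intro h
      have h1 : K.liftCycles z.1 (c + 1) (by simp) z.2 ≫ K.homologyπ c = 0 := by
        rw [← cancel_mono e.hom, Category.assoc, h, zero_comp]
      have h2 := exists_lift_bd K hK c hH (kernel.lift _ _ h1)
      rw [kernel.lift_ι_assoc, K.liftCycles_i] at h2
      exact h2
    · intro h
      cases c with
      | zero =>
        rw [isB_zero_iff] at h
        have h1 : K.liftCycles z.1 (0 + 1) (by simp) z.2 = 0 := by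
          rw [← cancel_mono (K.iCycles 0), K.liftCycles_i, h, zero_comp]
        rw [h1, zero_comp]
      | succ c =>
        rw [isB_succ_iff] at h
        obtain ⟨g, hg⟩ := h
        have h1 : K.liftCycles z.1 (c + 1 + 1) (by simp) z.2 = g ≫ K.toCycles c (c + 1) := by
          rw [← cancel_mono (K.iCycles (c + 1)), K.liftCycles_i, Category.assoc, K.toCycles_i, hg]
        rw [h1, Category.assoc, K.toCycles_comp_homologyπ_assoc, zero_comp, comp_zero]

end Acyc

variable {R : Type t} [CommRing R] {C : Type u} [Category.{v} C] [Abelian C] [Linear R C] [HasExt.{w} C]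
  {D : Type u'} [Category.{v'} D] [Abelian D] [Linear R D] [HasExt.{w'} D] {L : C ⥤ D} {G : D ⥤ C} [L.Additive]
  [L.Linear R] [G.Additive] (adj : L ⊣ G) {M : D} (J : InjectiveResolution M)

include adj in
/-- **`Ext^n(L O, M) ≃ₗ Hom(O, H^n(G(J)))`** if the terms and the lower cohomology objects of `G(J)` are acyclic. -/
theorem nonempty_equiv (n : ℕ) (O : C) (hK : ∀ j, Acyc.{w} O ((cx G J).X j))
    (hH : ∀ q, q < n → Acyc.{w} O ((cx G J).homology q)) {ω : C} (e : (cx G J).homology n ≅ ω) :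
    Nonempty (Ext.{w'} (L.obj O) M n ≃ₗ[R] (O ⟶ ω)) :=
  ⟨((presExt (R := R) (L.obj O) M J n).comap (adjZ R adj J.cocomplex O n)
      (fun x => isB_adjZ adj J.cocomplex O n x)).equiv (presAcyc (cx G J) hK R n hH e)⟩

end K274.AcycPres
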