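import Groth.Agent.ProjDual.K274.ClosedSerre
import Groth.Agent.ProjDual.K271.PnSubDepth
import Groth.Agent.Localalg.Depth2
import Groth.Agent.Ega4B.DepthBasic

/-!
# Duality on Cohen–Macaulay closed subschemes of `P^N_k`

* `exists_van_iff`: `H^j(X, O_X(-q)) = 0` for `j < n`, `q` large, iff `depth O_{X,x} ≥ n` at closed points;
* `hasRes`: the resolution property for `(O_X, ω)`;
* `exists_van_of_dual`: if `Ext^i(G, ω) = 0` implies `H^{n-i}(X, G) = 0` for `0 < i ≤ s` then `H^j(X, O_X(-q)) = 0` for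
  `n - s ≤ j < n`, `q` large.
-/

set_option autoImplicit false
universe w u

open CategoryTheory CategoryTheory.Limits AlgebraicGeometry Abelian

namespace K274.CMDual

open Groth.Agent Groth.Agent.Sga2.PnHHDelta Groth.Agent.PerfB.TwistDer K274.YonedaDual K274.SerreRes
  K274.ClosedSerre

variable (k : Type u) [Field k] (N : ℕ) {X : Scheme.{u}} (ι : X ⟶ CohB1.ProjSpace N k) [IsClosedImmersion ι]

/-- `H^j(X, O_X(-q)) = 0` for `j < n` and `q` large iff `depth O_{X,x} ≥ n` at all closed points. -/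
theorem exists_van_iff (n : ℕ) :
    (∃ q₀ : ℕ, ∀ q : ℕ, q₀ ≤ q → ∀ j : ℕ, j < n → Subsingleton (Coh.HH X (twX N k ι (-(q : ℤ))) j)) ↔
      ∀ x : X, IsClosed ({x} : Set X) → (n : ℕ∞) ≤ LocCoh.depth (X.presheaf.stalk x) (X.presheaf.stalk x) := by
  rcases n with _ | n
  · exact ⟨fun _ x _ => by simp, fun _ => ⟨0, fun q _ j hj => absurd hj (Nat.not_lt_zero j)⟩⟩
  · have hcoh : Coh.IsCoh (Coh.structureModule X) := by
      have := isNoetherian N k ι
      exact PerfA.CohSerre.isCoh_of_isFinLocFree (K271.PnSubDepth.isFinLocFree_structureModule X)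
    have h1 := K271.PnSubDepth.vanish_iff_depth k ι (Coh.structureModule X) hcoh n
    have h2 : ∀ q j : ℕ, Subsingleton (Coh.HH X (CohB1.tensorMod (Coh.structureModule X)
        (twX N k ι (-(q : ℤ)))) j) ↔ Subsingleton (Coh.HH X (twX N k ι (-(q : ℤ))) j) := fun q j =>
      ⟨CohqA.DirectSum.subsingleton_of_iso (Ega2.Tens.lunit _) j,
        CohqA.DirectSum.subsingleton_of_iso (Ega2.Tens.lunit _).symm j⟩
    have h3 : ∀ x : X, LocCoh.depth (X.presheaf.stalk x) ((Coh.structureModule X).presheaf.stalk x) =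
        LocCoh.depth (X.presheaf.stalk x) (X.presheaf.stalk x) := fun x =>
      (Ega4B.DepthBasic.depth_congr (Fdesc.StructMod.stalkEquiv x)).symm
    have h4 : ∀ x : X, ((n + 1 : ℕ) : ℕ∞) ≤ LocCoh.depth (X.presheaf.stalk x) (X.presheaf.stalk x) ↔
        (n : ℕ∞) < LocCoh.depth (X.presheaf.stalk x) ((Coh.structureModule X).presheaf.stalk x) := fun x => by
      rw [h3, Nat.cast_add, Nat.cast_one]
      exact ENat.add_one_le_iff (ENat.natCast_ne_top n)
    simp only [h4, ← h1, ← h2, Nat.lt_add_one_iff]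

variable [X.Over (Spec (CommRingCat.of k))] [HasExt.{w} X.Modules] (n : ℕ) {ω : X.Modules} (hω : Coh.IsCoh ω)

include ι hω in
theorem hasRes (A : ℕ)
    (hvan : ∃ q₀ : ℕ, ∀ q : ℕ, q₀ ≤ q → ∀ j : ℕ, n ≤ j + A → j < n →
      Subsingleton (Coh.HH X (twX N k ι (-(q : ℤ))) j)) (G : X.Modules) (hG : Coh.IsCoh G) :
    HasRes.{w} (fun G => Coh.IsCoh G) (Coh.structureModule X) ω n A G := by
  have := isNoetherian N k ι
  obtain ⟨q₀, hq₀⟩ := hvan
  obtain ⟨d₀, hd₀⟩ := serre N k ι ω hω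
  obtain ⟨m, d, hd, φ, hφ⟩ := exists_epi N k ι (min (-(q₀ : ℤ)) (-d₀)) G hG
  refine hasRes_of_epi (fun j : Fin m => twX N k ι (d j)) (fun j => isCoh N k ι _) hG φ (fun j a h0 _ => ?_)
    (fun j b hb hbn => ?_)
  · obtain ⟨e⟩ := nonempty_ext.{w} N k ι (-(d j)) (d j) (by omega) ω a
    have : Subsingleton ((hF k X a).obj (CohB1.tensorMod ω (twX N k ι (-(d j))))) :=
      hd₀ _ (by have := hd j; omega) a h0
    exact e.toEquiv.subsingleton
  · obtain ⟨q, hq⟩ : ∃ q : ℕ, d j = -(q : ℤ) := ⟨(-(d j)).toNat, by have := hd j; omega⟩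
    have : Subsingleton ((hF k X b).obj (twX N k ι (d j))) := by
      rw [hq]
      exact hq₀ q (by have := hd j; omega) b hb hbn
    exact (ExtLin.eH k (twX N k ι (d j)) b).toEquiv.subsingleton

include hω in
/-- `Ext^i(O_X(-q), ω) = 0` for `i > 0`, `q` large. -/
theorem exists_ext_van : ∃ q₀ : ℕ, ∀ q : ℕ, q₀ ≤ q → ∀ i : ℕ, 0 < i →
    Subsingleton (Ext.{w} (twX N k ι (-(q : ℤ))) ω i) := by
  obtain ⟨d₀, hd₀⟩ := serre N k ι ω hω
  refine ⟨d₀.toNat, fun q hq i hi => ?_⟩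
  obtain ⟨e⟩ := nonempty_ext.{w} N k ι q (-(q : ℤ)) (by omega) ω i
  have : Subsingleton ((hF k X i).obj (CohB1.tensorMod ω (twX N k ι q))) := hd₀ _ (by omega) i hi
  exact e.toEquiv.subsingleton

include hω in
/-- Vanishing of `H^j(X, O_X(-q))` from duality. -/
theorem exists_van_of_dual (s : ℕ) (h : ∀ G : X.Modules, Coh.IsCoh G → ∀ i : ℕ, i ≤ s →
      Subsingleton (Ext.{w} G ω i) → Subsingleton (Coh.HH X G (n - i))) :
    ∃ q₀ : ℕ, ∀ q : ℕ, q₀ ≤ q → ∀ j : ℕ, n ≤ j + s → j < n →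
      Subsingleton (Coh.HH X (twX N k ι (-(q : ℤ))) j) := by
  obtain ⟨q₀, hq₀⟩ := exists_ext_van.{w} k N ι hω
  refine ⟨q₀, fun q hq j hj hjn => ?_⟩
  have h1 := h _ (isCoh N k ι (-(q : ℤ))) (n - j) (by omega) (hq₀ q hq (n - j) (by omega))
  rwa [show n - (n - j) = j by omega] at h1

end K274.CMDual
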