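import Groth.Agent.ProjDual.K274.SerreRes
import Groth.Agent.ProjDual.K274.PnTwist
import Groth.Agent.Ega3B.PullTensor
import Groth.Agent.Sga5.AmpleFib
import Groth.Agent.VarietyA.AmpleField
import Groth.Agent.CohqA.EpiNeg
import Groth.Agent.CohqA.DirectSum
import Groth.Agent.Krr.H466.ClosedLF
import Groth.Agent.S0051
import Groth.Agent.S0019

/-!
# Serre twists on a closed subscheme of `P^N_A`

`A` Noetherian, `ι : X → P^N_A` a closed immersion, `O_X(d) = ι^*O(d)`.

* `twX`, `mul`, `zero`, `inv`, `isInvertible`, `isCoh`;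
* `serre`: `H^i(X, F(d)) = 0` for all `i > 0` and `d` large;
* `exists_epi`: a coherent module is a quotient of a finite sum of `O_X(d)`, `d ≤ D`;
* `nonempty_ext`: `Ext^i(O_X(-d), M) ≃ₗ H^i(X, M(d))`.
-/

set_option autoImplicit false
universe w u

open CategoryTheory CategoryTheory.Limits AlgebraicGeometry Abelian

namespace K274.ClosedSerre

open Groth.Agent Groth.Agent.Sga2.PnHHDelta Groth.Agent.PerfB.TwistDer

variable (N : ℕ) (A : Type u) [CommRing A] {X : Scheme.{u}} (ι : X ⟶ CohB1.ProjSpace N A)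

/-- `O_X(d) = ι^* O(d)`. -/
noncomputable abbrev twX (d : ℤ) : X.Modules := (Scheme.Modules.pullback ι).obj (tw N A d)

theorem isInvertible (d : ℤ) : PicF.IsInvertible (twX N A ι d) :=
  Fdesc.LocGen.isInvertible_pullback ι (isInvertible_tw N A d)

theorem isFinLocFree (d : ℤ) : FlatMod.IsFinLocFree (twX N A ι d) :=
  Ega2.QCohLocal.isFinLocFree_of_rank (Ega2.QCohLocal.isFinLocFreeOfRank_one_iff.mpr (isInvertible N A ι d))

theorem isCoh (d : ℤ) : Coh.IsCoh (twX N A ι d) :=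
  PerfA.CohSerre.isCoh_of_isFinLocFree (isFinLocFree N A ι d)

/-- `O_X(a) ⊗ O_X(b) ≅ O_X(c)` for `a + b = c`. -/
noncomputable def mul (a b c : ℤ) (h : a + b = c) :
    CohB1.tensorMod (twX N A ι a) (twX N A ι b) ≅ twX N A ι c :=
  (Ega3B.PullTensor.pullTensorIso ι (isInvertible_tw N A a) (isInvertible_tw N A b)).symm ≪≫
    (Scheme.Modules.pullback ι).mapIso (twMul N A a b c h)

theorem nonempty_pow (m : ℕ) : Nonempty (CohB1.tensorPow (twX N A ι 1) m ≅ twX N A ι m) := by
  obtain ⟨e⟩ := Ega2.TwistInv.nonempty_tensorPow_iso (Ega2.VeryAmpleAmple.coveredByOne_poly (n := N) (R := A)) 1 m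
  rw [mul_one] at e
  obtain ⟨e'⟩ := Ega3B.PullTensor.nonempty_pullPowIso ι (isInvertible_tw N A 1) m
  exact ⟨e'.symm ≪≫ (Scheme.Modules.pullback ι).mapIso e⟩

theorem nonempty_zero : Nonempty (twX N A ι 0 ≅ Coh.structureModule X) := by
  obtain ⟨e⟩ := Ega3B.PullTensor.nonempty_pullUnitIso ι
  exact ⟨(Scheme.Modules.pullback ι).mapIso (twZero N A).symm ≪≫ e⟩

/-- `O_X(0) ≅ O_X`. -/
noncomputable def zero : twX N A ι 0 ≅ Coh.structureModule X := (nonempty_zero N A ι).some

/-- `O_X(d) ⊗ O_X(e) ≅ O_X` for `d + e = 0`. -/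
noncomputable def inv (d e : ℤ) (h : d + e = 0) :
    CohB1.tensorMod (twX N A ι d) (twX N A ι e) ≅ Coh.structureModule X :=
  mul N A ι d e 0 h ≪≫ zero N A ι

section Ext

variable [X.Over (Spec (CommRingCat.of A))] [HasExt.{w} X.Modules]

theorem nonempty_ext (d e : ℤ) (h : d + e = 0) (M : X.Modules) (i : ℕ) :
    Nonempty (Ext.{w} (twX N A ι e) M i ≃ₗ[A] (hF A X i).obj (CohB1.tensorMod M (twX N A ι d))) :=
  TensLin.nonempty_extInv A (inv N A ι d e h) M i

end Ext

variable [IsNoetherianRing A] [IsClosedImmersion ι]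

include ι in
theorem isNoetherian : IsNoetherian X := by
  have h1 : IsProper (ι ≫ CohB1.ProjSpace.toSpec N A) := inferInstance
  have h2 : IsLocallyNoetherian X := LocallyOfFiniteType.isLocallyNoetherian (ι ≫ CohB1.ProjSpace.toSpec N A)
  have h3 : CompactSpace X := QuasiCompact.compactSpace_of_compactSpace (ι ≫ CohB1.ProjSpace.toSpec N A)
  exact { }

/-- **Serre vanishing.** -/
theorem serre (F : X.Modules) (hF : Coh.IsCoh F) : ∃ d₀ : ℤ, ∀ d : ℤ, d₀ ≤ d → ∀ i : ℕ, 0 < i →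
    Subsingleton (Coh.HH X (CohB1.tensorMod F (twX N A ι d)) i) := by
  have h1 : IsProper (ι ≫ CohB1.ProjSpace.toSpec N A) := inferInstance
  have hamp := Sga5.AmpleFib.isAmple_pullback ι (VarietyA.AmpleField.isAmple_twistProjSpace N A)
  obtain ⟨n₀, hn₀⟩ := (S0051.result A X (ι ≫ CohB1.ProjSpace.toSpec N A) _ hamp.1).mp hamp F hF
  refine ⟨n₀, fun d hd i hi => ?_⟩
  obtain ⟨m, rfl⟩ := Int.eq_ofNat_of_zero_le (le_trans (Int.natCast_nonneg _) hd)
  obtain ⟨e⟩ := nonempty_pow N A ι m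
  exact CohqA.DirectSum.subsingleton_of_iso (Ega2.Tens.mapTIso (Iso.refl F) e) i
    (hn₀ m (by exact_mod_cast hd) i hi)

/-- Coherent modules are quotients of sums of very negative twists. -/
theorem exists_epi (D : ℤ) (G : X.Modules) (hG : Coh.IsCoh G) :
    ∃ (m : ℕ) (d : Fin m → ℤ), (∀ j, d j ≤ D) ∧ ∃ φ : (∐ fun j : Fin m => twX N A ι (d j)) ⟶ G, Epi φ := by
  have := isNoetherian N A (𝟙 (CohB1.ProjSpace N A))
  obtain ⟨m, d, hd, φ, hφ⟩ := CohqA.EpiNeg.exists_epi_neg N A D ((Scheme.Modules.pushforward ι).obj G)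
    (S0019.result ι G hG)
  have := Krr.H466.ClosedLF.isIso_counit ι
  have hadj := Scheme.Modules.pullbackPushforwardAdjunction ι
  have : (Scheme.Modules.pullback ι).IsLeftAdjoint := hadj.isLeftAdjoint
  have : PreservesColimitsOfSize.{0, 0} (Scheme.Modules.pullback ι) := hadj.leftAdjoint_preservesColimits
  have : (Scheme.Modules.pullback ι).PreservesEpimorphisms := Functor.preservesEpimorphisms_of_adjunction hadj
  refine ⟨m, d, hd, (PreservesCoproduct.iso (Scheme.Modules.pullback ι) (fun j : Fin m => tw N A (d j))).inv ≫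
    (Scheme.Modules.pullback ι).map φ ≫ (Scheme.Modules.pullbackPushforwardAdjunction ι).counit.app G, ?_⟩
  infer_instance

end K274.ClosedSerre
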