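import Groth.Agent.Krr.H466.ClosedLF
import Groth.Agent.FormalA.PullbackQC
import Groth.Agent.PerfA.CohSerre

/-!
# Coherence descends along the direct image of a closed immersion

* `isCoh_of_push`: `M` is coherent if `i_* M` is.
-/

set_option autoImplicit false
universe u

open CategoryTheory CategoryTheory.Limits AlgebraicGeometry

namespace K274.CohDesc

open Groth.Agent

theorem isCoh_of_push {X Y : Scheme.{u}} (i : X ⟶ Y) [IsClosedImmersion i] {M : X.Modules}
    (h : Coh.IsCoh ((Scheme.Modules.pushforward i).obj M)) : Coh.IsCoh M := by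
  have := Krr.H466.ClosedLF.isIso_counit i
  have h1 := FormalA.PullbackQC.isCoh_pullback i _ h
  exact PerfA.CohSerre.isCoh_of_iso
    (asIso ((Scheme.Modules.pullbackPushforwardAdjunction i).counit.app M)) h1

end K274.CohDesc
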