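import Groth.Agent.ProjDual.K274.ShBridge
import Groth.Agent.Htor.H255.ExtRD
import Groth.Agent.PerfC.RHomPC346
import Groth.Agent.PerfB.PCNoeth
import Groth.Agent.PerfA.QCohD
import Groth.Agent.PerfC.RHomSerre
import Groth.Agent.CurvesC.ExtUnit

/-!
# Coherence of the Ext sheaves

* `isCoh_rightDerived`: the right derived functors of `Hom(F, -)` preserve coherence, `X` locally Noetherian, `F` coherent;
* `extShIsoRD`: `extSh F n G ≅ R^n Hom(F, -)(G)`;
* `isCoh_extSh`: `Ext^n(F, G)` is coherent.
-/

set_option autoImplicit false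
universe u

open CategoryTheory CategoryTheory.Limits AlgebraicGeometry

attribute [local instance] HasDerivedCategory.standard

namespace K274.ExtCoh

open Groth.Agent Groth.Agent.PerfC.RHomD Groth.Agent.PerfC.RHomCoh Groth.Agent.PerfC.RHomSerre
  Groth.Agent.Dcoh.MonClosed Groth.Agent.Htor.H255.ExtRD

variable {X : Scheme.{u}}

/-- Coherent modules are pseudo-coherent. -/
theorem pc_of_isCoh [IsLocallyNoetherian X] {F : X.Modules} (hF : Coh.IsCoh F) (m : ℤ) :
    DCoh.IsPseudoCoherentD m (DCoh.inD X F) :=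
  PerfB.PCNoeth.pc_of_isCoh ((0 - m).toNat + 1) _ 0 m inferInstance
    (by have := Int.self_le_toNat (0 - m); push_cast; omega)
    (fun j _ => PerfA.QCohD.isCohD_inD _ hF j)

theorem isCoh_rightDerived [IsLocallyNoetherian X] [HasInjectiveResolutions X.Modules] {F G : X.Modules}
    (hF : Coh.IsCoh F) (hG : Coh.IsCoh G) (n : ℕ) : Coh.IsCoh (((homFunctor F).rightDerived n).obj G) := by
  obtain ⟨e⟩ := nonempty_ext F G n n rfl
  have h1 := PerfC.RHomPC346.coh_rh_pc (X := X) locSerre_coh inferInstance (pc_of_isCoh hF) 0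
    (L := DCoh.inD X G) inferInstance (PerfA.QCohD.isCohD_inD _ hG) n
  have h2 := (locSerre_coh.{u}).iso X
  exact (locSerre_coh.{u}).iso X |>.of_iso e h1

variable {F : X.Modules} [ModSite.HasSheafHom (O := X.sheaf) F]

variable (F) in
/-- `extSh` is the right derived functor of the closed structure. -/
noncomputable def extShIsoRD [HasInjectiveResolutions (ModSite.Mod X.sheaf)] [HasInjectiveResolutions X.Modules]
    (G : X.Modules) (n : ℕ) :
    ((ModSite.extSh (O := X.sheaf) F n).obj G : X.Modules) ≅ ((homFunctor F).rightDerived n).obj G :=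
  ShBridge.extShObjIso n (injectiveResolution G) (flipAdj F) ≪≫
    ((injectiveResolution G).isoRightDerivedObj (homFunctor F) n).symm

/-- **Coherence of Ext sheaves.** -/
theorem isCoh_extSh [IsLocallyNoetherian X] [HasInjectiveResolutions (ModSite.Mod X.sheaf)] {G : X.Modules}
    (hF : Coh.IsCoh F) (hG : Coh.IsCoh G) (n : ℕ) :
    Coh.IsCoh ((ModSite.extSh (O := X.sheaf) F n).obj G : X.Modules) := by
  have : HasInjectiveResolutions X.Modules := ShBridge.hasInj
  exact PerfA.CohSerre.isCoh_of_iso (extShIsoRD F G n).symm (isCoh_rightDerived hF hG n)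

end K274.ExtCoh
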