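import Groth.Agent.CurvesC.ExtUnit
import Groth.Agent.Sga2.PnHHDelta
import Groth.Prelude.Def_KLin
import Mathlib.Algebra.Homology.DerivedCategory.Ext.Linear

/-!
# `Ext^n(O_X, F) ≃ₗ[A] H^n(X, F)`

`eH A F n : Ext (Coh.structureModule X) F n ≃ₗ[A] (hF A X n).obj F`, natural in `F` (`eH_comp_mk₀`).  (The target is
`Coh.HH X F n` by definition; statements are kept in terms of the functor `hF A X n`, which is much faster.)
-/

set_option autoImplicit false
universe w u

open CategoryTheory CategoryTheory.Limits AlgebraicGeometry Abelian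

namespace K274.ExtLin

open Groth.Agent.CurvesC.ExtUnit Groth.Agent.Sga2.PnHHDelta

variable (A : Type u) [CommRing A] {X : Scheme.{u}} [X.Over (Spec (CommRingCat.of A))] [HasExt.{w} X.Modules]

/-- The comparison `Ext^n(O_X, F) ≃ₗ[A] H^n(X, F)`. -/
noncomputable def eH (F : X.Modules) (n : ℕ) :
    Ext.{w} (Coh.structureModule X) F n ≃ₗ[A] (hF A X n).obj F where
  toFun x := extHH F n x
  invFun y := (extHH F n).symm y
  left_inv x := (extHH F n).symm_apply_apply x
  right_inv y := (extHH F n).apply_symm_apply y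
  map_add' x y := (extHH F n).map_add x y
  map_smul' a x := by
    rw [Ext.smul_eq_comp_mk₀, KLin.smul_id]
    exact extHH_comp_mk₀ n x (Formal.smulMod A F a)

theorem eH_comp_mk₀ {F G : X.Modules} (n : ℕ) (x : Ext.{w} (Coh.structureModule X) F n) (f : F ⟶ G) :
    eH A G n (x.comp (Ext.mk₀ f) (add_zero n)) = ((hF A X n).map f).hom (eH A F n x) :=
  extHH_comp_mk₀ n x f

end K274.ExtLin
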