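import Groth.Agent.ProjDual.K274.TensLin
import Groth.Agent.CohqA.DerComp
import Groth.Agent.Htor.H255.ExtRD

/-!
# Ext sheaves and invertible modules

`L ⊗ L' ≅ O_X`.

* `homTwist`: `Hom(F, M) ⊗ L ≅ Hom(F, M ⊗ L)`;
* `rdTwist`: `R^n Hom(F, -)(M) ⊗ L ≅ R^n Hom(F, -)(M ⊗ L)`.
-/

set_option autoImplicit false
universe u

open CategoryTheory CategoryTheory.Limits AlgebraicGeometry

namespace K274.ExtTwist

open Groth.Agent Groth.Agent.Dcoh.MonClosed Groth.Agent.Htor.H255.ExtRD

variable {X : Scheme.{u}}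

/-- `- ⊗ F ⊣ Hom(F, -)` -/
noncomputable def adjR (F : X.Modules) : DCoh.tensorRightMod F ⊣ homFunctor F :=
  (flipAdj F).ofNatIsoLeft (NatIso.ofComponents (fun _ => Iso.refl _))

/-- `(- ⊗ F) ⊗ L ≅ (- ⊗ L) ⊗ F` -/
noncomputable def swapR (F L : X.Modules) :
    DCoh.tensorRightMod F ⋙ DCoh.tensorRightMod L ≅ DCoh.tensorRightMod L ⋙ DCoh.tensorRightMod F :=
  PerfB.TensExact.tensorRightModComp F L ≪≫ PerfB.TensExact.tensorRightModCongr (Ega2.Tens.swap F L) ≪≫
    (PerfB.TensExact.tensorRightModComp L F).symm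

variable {L L' : X.Modules} (e : CohB1.tensorMod L L' ≅ Coh.structureModule X)

include e in
/-- `- ⊗ L` as an equivalence -/
noncomputable def tensEquiv : X.Modules ≌ X.Modules :=
  CategoryTheory.Equivalence.mk (DCoh.tensorRightMod L') (DCoh.tensorRightMod L)
    (PerfB.TensInv.tensorInvIso (Ega2.Tens.swap L' L ≪≫ e)).symm (PerfB.TensInv.tensorInvIso e)

/-- `- ⊗ L' ⊣ - ⊗ L` -/
noncomputable def adjT : DCoh.tensorRightMod L' ⊣ DCoh.tensorRightMod L := (tensEquiv e).toAdjunction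

include e in
theorem isEquivalence : (DCoh.tensorRightMod L).IsEquivalence := inferInstanceAs (tensEquiv e).inverse.IsEquivalence

include e in
theorem isEquivalence' : (DCoh.tensorRightMod L').IsEquivalence := inferInstanceAs (tensEquiv e).functor.IsEquivalence

/-- `Hom(F, M) ⊗ L ≅ Hom(F, M ⊗ L)` -/
noncomputable def homTwist (F : X.Modules) :
    homFunctor F ⋙ DCoh.tensorRightMod L ≅ DCoh.tensorRightMod L ⋙ homFunctor F :=
  ((adjT e).comp (adjR F)).rightAdjointUniq (((adjR F).comp (adjT e)).ofNatIsoLeft (swapR F L'))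

/-- `R^n Hom(F, -)(M) ⊗ L ≅ R^n Hom(F, -)(M ⊗ L)` -/
noncomputable def rdTwist [HasInjectiveResolutions X.Modules] (F : X.Modules) (n : ℕ) :
    (homFunctor F).rightDerived n ⋙ DCoh.tensorRightMod L ≅ DCoh.tensorRightMod L ⋙ (homFunctor F).rightDerived n :=
  haveI := isEquivalence e
  haveI := isEquivalence' e
  haveI : (DCoh.tensorRightMod L).PreservesInjectiveObjects :=
    Functor.preservesInjectiveObjects_of_adjunction_of_preservesMonomorphisms (adjT e)
  CohqA.DerComp.compIso (homTwist e F) n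

end K274.ExtTwist
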