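import Groth.Agent.ProjDual.K274.PnDual
import Groth.Agent.RegImm.K560.InterCodim
import Groth.Agent.ProjDual.K273.Fund
import Groth.Agent.ProjDual.K273.InvHom
import Groth.Agent.ProjDual.K273.ChartInv
import Groth.Agent.ProjDual.K273.ExtHomO
import Groth.Agent.Ega4A.RegCM

/-!
# Local complete intersections of codimension `r` in `P^N`

* `isRegularImmersionOfCodim`: a closed subscheme of a locally Noetherian scheme with Cohen-Macaulay local rings,
  locally defined by `c` equations and of codimension `≥ c`, is regularly immersed.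
* `exists_dualizing`: `ι^* O(-N-1) ⊗ (⋀^r C)^∨` is a dualizing sheaf.
-/

set_option autoImplicit false
universe u

open CategoryTheory CategoryTheory.Limits AlgebraicGeometry
open RingTheory.Sequence

namespace K274.LciDual

section Reg

open K560.InterCodim Groth.Agent.Divis.IdealComap Groth.Agent.Divis.RegImm Groth.Agent.Divis.RegStalk

variable {X Y : Scheme.{u}}

theorem exists_list [IsLocallyNoetherian X] (hCM : ∀ x : X, LocCoh.IsCohenMacaulayLocalRing (X.presheaf.stalk x))
    (i : Y ⟶ X) [IsClosedImmersion i] (c : ℕ)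
    (hcodim : ∀ w : Y, (c : WithBot ℕ∞) ≤ ringKrullDim (X.presheaf.stalk (i.base w)))
    (y : Y) (U : X.affineOpens) (hx : i y ∈ U.1) (rs : List Γ(X, U.1)) (hc : rs.length = c)
    (hrs : i.ker.ideal U = Ideal.ofList rs) :
    IsWeaklyRegular (X.presheaf.stalk (i y)) (rs.map (X.presheaf.germ U.1 (i y) hx).hom) := by
  let := X.presheaf.algebra_section_stalk ⟨i y, hx⟩
  have := U.2.isLocalization_stalk ⟨i y, hx⟩
  refine (K560.CodimReg.isRegular_atPrime (U.2.primeIdealOf ⟨i y, hx⟩).asIdeal (hCM (i y)) rs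
    ?_ ?_).toIsWeaklyRegular
  · rw [← hrs]
    exact ideal_le_primeIdealOf i U y hx
  · intro p hp hle hle'
    let q : Spec Γ(X, U.1) := ⟨p, hp⟩
    have hq : U.2.fromSpec q ∈ U.1 := fromSpec_mem U q
    have hq' := primeIdealOf_fromSpec U q hq
    have h1 : i.ker.ideal U ≤ (U.2.primeIdealOf ⟨U.2.fromSpec q, hq⟩).asIdeal := by
      rw [hq', hrs]
      exact hle
    obtain ⟨w, hw⟩ := exists_preimage i U _ hq h1
    have h2 := hcodim w
    have h3 : i.base w = U.2.fromSpec q := hw
    rw [h3, ringKrullDim_stalk_eq_height U _ hq, hq'] at h2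
    rw [hc]
    exact_mod_cast h2

theorem ofList_ofFn {R : Type*} [CommRing R] {n : ℕ} (f : Fin n → R) :
    Ideal.ofList (List.ofFn f) = Ideal.span (Set.range f) := by
  rw [Ideal.ofList]
  congr 1
  ext x
  simp [List.mem_ofFn]

/-- A local complete intersection of the expected codimension in a Cohen-Macaulay scheme is regularly immersed. -/
theorem isRegularImmersionOfCodim [IsLocallyNoetherian X]
    (hCM : ∀ x : X, LocCoh.IsCohenMacaulayLocalRing (X.presheaf.stalk x))
    (i : Y ⟶ X) [IsClosedImmersion i] (c : ℕ)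
    (hcodim : ∀ w : Y, (c : WithBot ℕ∞) ≤ ringKrullDim (X.presheaf.stalk (i.base w)))
    (hgen : ∀ y : Y, ∃ U : X.affineOpens, i.base y ∈ (U : X.Opens) ∧
      ∃ f : Fin c → Γ(X, (U : X.Opens)), i.ker.ideal U = Ideal.span (Set.range f)) :
    RegImm.IsRegularImmersionOfCodim RegImm.Kind.regular c i := by
  refine ⟨inferInstance, fun w ↦ ?_⟩
  obtain ⟨V, hxV, g, hg⟩ := hgen w
  obtain ⟨rs, hrs, hrs'⟩ : ∃ rs : List Γ(X, V.1), rs.length = c ∧ i.ker.ideal V = Ideal.ofList rs :=
    ⟨List.ofFn g, List.length_ofFn, by rw [hg, ofList_ofFn]⟩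
  have hreg := exists_list hCM i c hcodim w V hxV rs hrs hrs'
  have : IsNoetherianRing Γ(X, V.1) := IsLocallyNoetherian.component_noetherian V
  let := X.presheaf.algebra_section_stalk ⟨i w, hxV⟩
  have := V.2.isLocalization_stalk ⟨i w, hxV⟩
  obtain ⟨f, hf, Hf⟩ := Groth.Agent.Divis.RegSpread.exists_isWeaklyRegular_of_atPrime'
    (V.2.primeIdealOf ⟨i w, hxV⟩).asIdeal (X.presheaf.stalk (i w)) rs hreg
  have hu : IsUnit ((X.presheaf.germ V.1 _ hxV).hom f) :=
    IsLocalization.map_units (X.presheaf.stalk (i w))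
      (⟨f, hf⟩ : (V.2.primeIdealOf ⟨_, hxV⟩).asIdeal.primeCompl)
  have hxf : i w ∈ X.basicOpen f := (X.mem_basicOpen _ _ hxV).mpr hu
  obtain ⟨D, hD, hDf⟩ : ∃ (D : X.Opens) (_ : IsAffineOpen D), D = X.basicOpen f := ⟨_, V.2.basicOpen f, rfl⟩
  have hle : D ≤ V.1 := hDf ▸ X.basicOpen_le f
  have hres : IsUnit ((X.presheaf.map (homOfLE hle).op).hom f) := by
    subst hDf
    exact RingedSpace.isUnit_res_basicOpen _ f
  have hker : i.ker.ideal ⟨D, hD⟩ = Ideal.ofList (rs.map (X.presheaf.map (homOfLE hle).op).hom) := by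
    rw [← i.ker.map_ideal (U := ⟨D, hD⟩) (V := V) hle, hrs', Ideal.map_ofList]
    rfl
  have hx' : i w ∈ D := by
    rw [hDf]
    exact hxf
  refine ⟨⟨D, hD⟩, hx', inferInstance,
    rs.map (X.presheaf.map (homOfLE hle).op).hom, by simp [hrs], ?_, ?_⟩
  · refine (isRegular_iff_ne_top _).mpr ⟨?_, ?_⟩
    · have hflat := flat_res V.2 hD hle
      let := (X.presheaf.map (homOfLE hle).op).hom.toAlgebra
      have : Module.Flat Γ(X, V.1) Γ(X, D) := hflat
      exact Hf _ hres
    · rw [← hker]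
      exact ideal_ne_top_of_mem_support (mem_support_ker _ w) (U := ⟨D, hD⟩) hx'
  · rw [← hker, Scheme.Hom.ker_apply]

end Reg

open Groth.Agent Groth.Agent.Sga2.PnHHDelta K274.Shift K274.ClosedDual K274.PnSerre K274.SerreRes

/-- `Hom(C, N) ≅ N ⊗ Hom(C, O)` for `C` invertible. -/
theorem nonempty_hom_iso {X : Scheme.{u}} {C : X.Modules} (hC : PicF.IsInvertible C) [DCoh.HasSheafHom C]
    (M : X.Modules) :
    Nonempty (CohqB.HomSheaf.homSheaf C M ≅ CohB1.tensorMod M ((DCoh.sheafHom C).obj (Coh.structureModule X))) := by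
  obtain ⟨C', -, ⟨e⟩⟩ := Grpsch.PicGrp.exists_inverse hC
  have e2 : (DCoh.sheafHom C).obj (Coh.structureModule X) ≅ C' :=
    (Sga2.PnHomAdj.sheafHomIso C).app (Coh.structureModule X) ≪≫ K273.InvHom.homIso e (Coh.structureModule X) ≪≫
      Fga.TensorList.unitTensor C'
  exact ⟨K273.InvHom.homIso e M ≪≫ Fga.TensorList.tensorModCongr (Iso.refl M) e2.symm⟩

section Pn

variable (k : Type u) [Field k] (N r : ℕ) (hr : r ≤ N) (X : Scheme.{u}) [X.Over (Spec (CommRingCat.of k))]
  (ι : X ⟶ CohB1.ProjSpace N k) [IsClosedImmersion ι] (hι : ι ≫ CohB1.ProjSpace.toSpec N k = X ↘ Spec (CommRingCat.of k))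
  (hdim : topologicalKrullDim ↥X ≤ ((N - r : ℕ) : WithBot ℕ∞))
  (hgen : ∀ x : X, ∃ U : (CohB1.ProjSpace N k).affineOpens, ι.base x ∈ (U : (CohB1.ProjSpace N k).Opens) ∧
      ∃ f : Fin r → Γ(CohB1.ProjSpace N k, (U : (CohB1.ProjSpace N k).Opens)), ι.ker.ideal U = Ideal.span (Set.range f))

omit [X.Over (Spec (CommRingCat.of k))] in
include hr hdim hgen in
theorem isRegularImmersion : RegImm.IsRegularImmersionOfCodim RegImm.Kind.regular r ι := by
  have := isLocallyNoetherian k N
  refine isRegularImmersionOfCodim (fun x => ?_) ι r (fun w => ?_) hgen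
  · have := Sga5.ProjReg.isRegularLocalRing_stalk N k x
    exact Ega4A.RegCM.isCohenMacaulayLocalRing_of_isRegularLocalRing _
  · have h := PnDual.dim_add_le N (N - r) (Nat.sub_le _ _) X hdim
    rw [Nat.sub_sub_self hr] at h
    obtain ⟨d, hd, hcd⟩ := PnVan.le_ringKrullDim k N ι r h (ι w) ⟨w, rfl⟩
    have h2 : ringKrullDim ((CohB1.ProjSpace N k).presheaf.stalk (ι.base w)) = d := hd
    rw [h2]
    exact_mod_cast hcd

include hr hι hdim hgen in
/-- The dualizing sheaf of a local complete intersection. -/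
theorem exists_dualizing (C : X.Modules) (hC : ExtPow.IsExtPow r (Omega.conormal ι) C) [DCoh.HasSheafHom C] :
    ∃ t : (hF k X (N - r)).obj (CohB1.tensorMod ((Scheme.Modules.pullback ι).obj (Twist.twistProjSpace N k (-((N : ℤ) + 1))))
        ((DCoh.sheafHom C).obj (Coh.structureModule X))) →ₗ[k] k, IsDualizing k (N - r) _ t := by
  have := hasHomO ι
  have := CurvesC.ExtUnit.enoughInjectives_modules (CohB1.ProjSpace N k)
  have : HasExt.{u} (CohB1.ProjSpace N k).Modules := hasExt_of_enoughInjectives _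
  let J : InjectiveResolution (om k N) := injectiveResolution _
  have hreg := isRegularImmersion k N r hr X ι hdim hgen
  have hch := K273.Charts.hasCharts_of_regular hreg
  have hq : Coh.IsQCoh (om k N) := Ega2.QCohLocal.isQCoh_of_isFinLocFree (PnDual.isFinLocFree_om k N)
  obtain ⟨e1⟩ := K273.Fund.main J hch hq hC
  obtain ⟨e2⟩ := nonempty_hom_iso (K273.ChartInv.isInvertible hch hC)
    ((Scheme.Modules.pullback ι).obj (Twist.twistProjSpace N k (-((N : ℤ) + 1))))
  have hsh : ModSite.HasSheafHom (O := (CohB1.ProjSpace N k).sheaf)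
      ((Scheme.Modules.pushforward ι).obj (Coh.structureModule X)) := (adjPush ι).isLeftAdjoint
  have hinj : HasInjectiveResolutions (ModSite.Mod (CohB1.ProjSpace N k).sheaf) :=
    inferInstanceAs (HasInjectiveResolutions (CohB1.ProjSpace N k).Modules)
  refine PnDual.exists_dualizing k N (N - r) (Nat.sub_le _ _) X ι hι hdim _ ?_
  rw [Nat.sub_sub_self hr]
  exact ⟨((K273.ExtHomO.extShPushIso ι J r).trans
    ((Scheme.Modules.pushforward ι).mapIso (e1 ≪≫ e2))).symm⟩

end Pn

end K274.LciDual
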