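import Mathlib.Algebra.Homology.DerivedCategory.Ext.ExactSequences
import Mathlib.Algebra.Homology.DerivedCategory.Ext.EnoughInjectives
import Mathlib.Algebra.Homology.DerivedCategory.Ext.Linear
import Mathlib.CategoryTheory.Abelian.Injective.Ext
import Mathlib.Algebra.Homology.ShortComplex.ShortExact
import Mathlib.CategoryTheory.Linear.LinearFunctor

/-!
# `Ext` from complexes of injectives which are exact in a range

`K` is a cochain complex (indexed by `ℕ`) of injective objects in an `R`-linear abelian category.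

* `Z R K F n`: the cocycles `F ⟶ K.X n`; `IsB K F n`: the coboundaries;
* `Pres R K F n M`: a presentation of the module `M` as cocycles modulo coboundaries;
* `presOfExact`: if `Y` is the kernel of `K^m → K^{m+1}` and `K` is exact in degrees `m+1, …, m+i`, `i ≥ 1`, then
  `Ext^i(F, Y)` is presented by the cocycles of degree `m + i`;
* `presHomology`: if `K` is exact in degrees `< c` and in degrees `c+1, …, c+i` and `ω` is the cohomology of `K` in degree `c`,
  then `Ext^i(F, ω)` is presented by the cocycles of degree `c + i`;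
* `presExt`: for an injective resolution;
* `Pres.adj`: adjunctions.
-/

set_option autoImplicit false

universe t w v v' u u'

open CategoryTheory Limits Abelian

namespace K274.PartRes

section Defs

variable (R : Type t) [CommRing R] {C : Type u} [Category.{v} C] [Preadditive C] [Linear R C]
  (K : CochainComplex C ℕ)

/-- The cocycles of degree `n` of `Hom(F, K)`. -/
def Z (F : C) (n : ℕ) : Submodule R (F ⟶ K.X n) where
  carrier := {f | f ≫ K.d n (n + 1) = 0}
  add_mem' {f g} hf hg := by
    change (f + g) ≫ K.d n (n + 1) = 0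
    rw [Preadditive.add_comp, show f ≫ K.d n (n + 1) = 0 from hf, show g ≫ K.d n (n + 1) = 0 from hg, add_zero]
  zero_mem' := zero_comp
  smul_mem' r f hf := by
    change (r • f) ≫ K.d n (n + 1) = 0
    rw [Linear.smul_comp, show f ≫ K.d n (n + 1) = 0 from hf, smul_zero]

variable {R} in
theorem mem_Z {F : C} {n : ℕ} (f : F ⟶ K.X n) : f ∈ Z R K F n ↔ f ≫ K.d n (n + 1) = 0 := Iff.rfl

/-- The coboundaries of degree `n` of `Hom(F, K)`. -/
def IsB (F : C) (n : ℕ) (x : F ⟶ K.X n) : Prop := ∃ (p : ℕ) (g : F ⟶ K.X p), g ≫ K.d p n = x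

theorem isB_zero_iff (F : C) (x : F ⟶ K.X 0) : IsB K F 0 x ↔ x = 0 := by
  constructor
  · rintro ⟨p, g, rfl⟩
    rw [K.shape p 0 (by simp), comp_zero]
  · rintro rfl
    exact ⟨0, 0, zero_comp⟩

theorem isB_succ_iff (F : C) (n : ℕ) (x : F ⟶ K.X (n + 1)) :
    IsB K F (n + 1) x ↔ ∃ g : F ⟶ K.X n, g ≫ K.d n (n + 1) = x := by
  constructor
  · rintro ⟨p, g, rfl⟩
    by_cases h : p = n
    · subst h
      exact ⟨g, rfl⟩
    · refine ⟨0, ?_⟩
      rw [K.shape p (n + 1) (by simp; exact h), comp_zero, zero_comp]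
  · rintro ⟨g, rfl⟩
    exact ⟨n, g, rfl⟩

/-- A presentation of `M` as the cocycles of degree `n` modulo the coboundaries. -/
structure Pres (F : C) (n : ℕ) (M : Type*) [AddCommGroup M] [Module R M] where
  /-- the class map -/
  φ : Z R K F n →ₗ[R] M
  surj : Function.Surjective φ
  ker_iff : ∀ x, φ x = 0 ↔ IsB K F n x.1

variable {R K}

namespace Pres

variable {F : C} {n : ℕ} {M M' : Type*} [AddCommGroup M] [Module R M] [AddCommGroup M'] [Module R M']

/-- Two modules with the same presentation are isomorphic. -/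
noncomputable def equiv (P : Pres R K F n M) (P' : Pres R K F n M') : M ≃ₗ[R] M' :=
  (P.φ.quotKerEquivOfSurjective P.surj).symm.trans
    ((Submodule.quotEquivOfEq _ _ (by
      ext x
      rw [LinearMap.mem_ker, LinearMap.mem_ker, P.ker_iff, P'.ker_iff])).trans
      (P'.φ.quotKerEquivOfSurjective P'.surj))

theorem equiv_φ (P : Pres R K F n M) (P' : Pres R K F n M') (x : Z R K F n) :
    P.equiv P' (P.φ x) = P'.φ x := by
  have h1 : (P.φ.quotKerEquivOfSurjective P.surj).symm (P.φ x) = (LinearMap.ker P.φ).mkQ x := by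
    rw [LinearEquiv.symm_apply_eq]; rfl
  rw [equiv, LinearEquiv.trans_apply, h1]
  rfl

/-- Change of the module. -/
def congr (P : Pres R K F n M) (e : M ≃ₗ[R] M') : Pres R K F n M' where
  φ := e.toLinearMap ∘ₗ P.φ
  surj := e.surjective.comp P.surj
  ker_iff x := by
    rw [← P.ker_iff]
    change e (P.φ x) = 0 ↔ _
    exact e.map_eq_zero_iff

/-- Change of the complex. -/
def comap {C' : Type u'} [Category.{v'} C'] [Preadditive C'] [Linear R C'] {K' : CochainComplex C' ℕ} {F' : C'}
    {n' : ℕ} (P : Pres R K F n M) (e : Z R K' F' n' ≃ₗ[R] Z R K F n)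
    (he : ∀ x, IsB K F n (e x).1 ↔ IsB K' F' n' x.1) : Pres R K' F' n' M where
  φ := P.φ ∘ₗ e.toLinearMap
  surj := P.surj.comp e.surjective
  ker_iff x := by
    rw [← he, ← P.ker_iff]
    rfl

end Pres

end Defs

section Adj

variable {R : Type t} [CommRing R] {C : Type u} [Category.{v} C] [Preadditive C] [Linear R C]
  {D : Type u'} [Category.{v'} D] [Preadditive D] [Linear R D] {L : C ⥤ D} {G : D ⥤ C} [L.Additive] [L.Linear R]
  [G.Additive] (adj : L ⊣ G) (K : CochainComplex D ℕ)

omit [Preadditive C] [Preadditive D] [L.Additive] [G.Additive] in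
theorem homEquiv_symm_comp {F : C} {A B : D} (f : F ⟶ G.obj A) (d : A ⟶ B) :
    (adj.homEquiv F B).symm (f ≫ G.map d) = (adj.homEquiv F A).symm f ≫ d := by
  rw [Adjunction.homEquiv_naturality_right_symm]

omit [G.Additive] in
theorem homEquiv_symm_add {F : C} {A : D} (f g : F ⟶ G.obj A) :
    (adj.homEquiv F A).symm (f + g) = (adj.homEquiv F A).symm f + (adj.homEquiv F A).symm g := by
  rw [Adjunction.homEquiv_counit, Adjunction.homEquiv_counit, Adjunction.homEquiv_counit, Functor.map_add,
    Preadditive.add_comp]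

omit [G.Additive] [L.Additive] in
theorem homEquiv_symm_smul {F : C} {A : D} (r : R) (f : F ⟶ G.obj A) :
    (adj.homEquiv F A).symm (r • f) = r • (adj.homEquiv F A).symm f := by
  rw [Adjunction.homEquiv_counit, Adjunction.homEquiv_counit, Functor.map_smul, Linear.smul_comp]

omit [G.Additive] in
theorem homEquiv_symm_eq_zero {F : C} {A : D} (f : F ⟶ G.obj A) :
    (adj.homEquiv F A).symm f = 0 ↔ f = 0 := by
  have h0 : (adj.homEquiv F A).symm (0 : F ⟶ G.obj A) = 0 := by
    rw [Adjunction.homEquiv_counit, Functor.map_zero, zero_comp]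
  constructor
  · intro h
    exact (adj.homEquiv F A).symm.injective (h.trans h0.symm)
  · rintro rfl
    exact h0

variable (R) in
/-- Cocycles and adjunctions. -/
noncomputable def adjZ (F : C) (n : ℕ) :
    Z R ((G.mapHomologicalComplex (ComplexShape.up ℕ)).obj K) F n ≃ₗ[R] Z R K (L.obj F) n where
  toFun f := ⟨(adj.homEquiv F (K.X n)).symm f.1,
    (homEquiv_symm_comp adj f.1 (K.d n (n + 1))).symm.trans ((homEquiv_symm_eq_zero adj _).mpr f.2)⟩
  invFun g := ⟨adj.homEquiv F (K.X n) g.1, by
    refine (homEquiv_symm_eq_zero adj _).mp ((homEquiv_symm_comp adj _ (K.d n (n + 1))).trans ?_)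
    rw [Equiv.symm_apply_apply]
    exact g.2⟩
  left_inv f := Subtype.ext ((adj.homEquiv F (K.X n)).apply_symm_apply f.1)
  right_inv g := Subtype.ext ((adj.homEquiv F (K.X n)).symm_apply_apply g.1)
  map_add' f g := Subtype.ext (homEquiv_symm_add adj f.1 g.1)
  map_smul' r f := Subtype.ext (homEquiv_symm_smul adj r f.1)

theorem adjZ_coe (F : C) (n : ℕ) (f : Z R ((G.mapHomologicalComplex (ComplexShape.up ℕ)).obj K) F n) :
    (adjZ R adj K F n f).1 = (adj.homEquiv F (K.X n)).symm f.1 := rfl

theorem isB_adjZ (F : C) (n : ℕ) (f : Z R ((G.mapHomologicalComplex (ComplexShape.up ℕ)).obj K) F n) :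
    IsB K (L.obj F) n (adjZ R adj K F n f).1 ↔ IsB ((G.mapHomologicalComplex (ComplexShape.up ℕ)).obj K) F n f.1 := by
  rw [adjZ_coe]
  constructor
  · rintro ⟨p, g, hg⟩
    refine ⟨p, adj.homEquiv F (K.X p) g, (adj.homEquiv F (K.X n)).symm.injective ?_⟩
    refine (homEquiv_symm_comp adj _ (K.d p n)).trans ?_
    rw [Equiv.symm_apply_apply]
    exact hg
  · rintro ⟨p, g, hg⟩
    exact ⟨p, (adj.homEquiv F (K.X p)).symm g,
      (homEquiv_symm_comp adj g (K.d p n)).symm.trans (congrArg (adj.homEquiv F (K.X n)).symm hg)⟩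

end Adj

section Main

variable {R : Type t} [CommRing R] {C : Type u} [Category.{v} C] [Abelian C] [Linear R C] [HasExt.{w} C]

omit [Linear R C] in
theorem extMk_zero_iff {F Y : C} (J : InjectiveResolution Y) (f : F ⟶ J.cocomplex.X 0)
    (hf : f ≫ J.cocomplex.d 0 1 = 0) : J.extMk f 1 rfl hf = 0 ↔ f = 0 := by
  constructor
  · intro h
    rw [← J.extEquivCohomologyClass.apply_eq_iff_eq, J.extEquivCohomologyClass_extMk,
      J.extEquivCohomologyClass_zero, CochainComplex.HomComplex.CohomologyClass.mk_eq_zero_iff,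
      CochainComplex.HomComplex.Cocycle.fromSingleMk_mem_coboundaries_iff _ _ _ _ _ (-1) (by omega)] at h
    obtain ⟨g, hg⟩ := h
    have h0 : IsZero (J.cochainComplex.X (-1)) := J.cochainComplex.isZero_of_isStrictlyGE 0 (-1)
    rw [h0.eq_of_tgt g 0, zero_comp] at hg
    rw [← cancel_mono (J.cochainComplexXIso 0 0 rfl).inv, zero_comp]
    exact hg.symm
  · rintro rfl
    simp

/-- `Ext` and an injective resolution. -/
noncomputable def presExt (F Y : C) (J : InjectiveResolution Y) (n : ℕ) :
    Pres R J.cocomplex F n (Ext F Y n) where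
  φ :=
    { toFun := fun f => J.extMk f.1 (n + 1) rfl f.2
      map_add' := fun f g => (J.add_extMk f.1 g.1 (n + 1) rfl f.2 g.2).symm
      map_smul' := fun r f => by
        have h := J.mk₀_comp_extMk f.1 (n + 1) rfl f.2 (r • 𝟙 F)
        rw [Ext.mk₀_smul, Ext.smul_comp, Ext.mk₀_id_comp] at h
        rw [RingHom.id_apply, h]
        congr 1
        change r • f.1 = (r • 𝟙 F) ≫ f.1
        rw [Linear.smul_comp, Category.id_comp] }
  surj x := by
    obtain ⟨f, hf, rfl⟩ := J.extMk_surjective x (n + 1) rfl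
    exact ⟨⟨f, hf⟩, rfl⟩
  ker_iff x := by
    change J.extMk x.1 (n + 1) rfl x.2 = 0 ↔ _
    cases n with
    | zero =>
      rw [isB_zero_iff]
      exact extMk_zero_iff J x.1 x.2
    | succ n =>
      rw [isB_succ_iff, J.extMk_eq_zero_iff x.1 (n + 1 + 1) rfl x.2 n rfl]

theorem presExt_φ (F Y : C) (J : InjectiveResolution Y) (n : ℕ) (f : Z R J.cocomplex F n) :
    (presExt (R := R) F Y J n).φ f = J.extMk f.1 (n + 1) rfl f.2 := rfl

variable (K : CochainComplex C ℕ)

omit [HasExt.{w} C] in
/-- Cocycles are maps to the kernel. -/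
noncomputable def equivZ {F Y : C} {m : ℕ} (i : Y ⟶ K.X m) [Mono i] (w : i ≫ K.d m (m + 1) = 0)
    (hi : (ShortComplex.mk i (K.d m (m + 1)) w).Exact) : (F ⟶ Y) ≃ₗ[R] Z R K F m :=
  LinearEquiv.ofBijective
    { toFun := fun f => (⟨f ≫ i, by rw [mem_Z, Category.assoc, w, comp_zero]⟩ : Z R K F m)
      map_add' := fun f g => Subtype.ext (Preadditive.add_comp _ _ _ _ _ _)
      map_smul' := fun r f => Subtype.ext (Linear.smul_comp _ _ _ _ _ _) }
    ⟨fun f g h => by
      rw [← cancel_mono i]
      exact congrArg Subtype.val h, fun f => ⟨hi.lift f.1 f.2, Subtype.ext (hi.lift_f f.1 f.2)⟩⟩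

omit [HasExt.{w} C] in
theorem equivZ_coe {F Y : C} {m : ℕ} (i : Y ⟶ K.X m) [Mono i] (w : i ≫ K.d m (m + 1) = 0)
    (hi : (ShortComplex.mk i (K.d m (m + 1)) w).Exact) (f : F ⟶ Y) :
    (equivZ (R := R) K i w hi f).1 = f ≫ i := rfl

omit [HasExt.{w} C] in
/-- The short exact sequence `0 → Y → K^m → Z^{m+1} → 0`. -/
theorem shortExact_step {Y W : C} {m : ℕ} (i : Y ⟶ K.X m) [Mono i] (w : i ≫ K.d m (m + 1) = 0)
    (hi : (ShortComplex.mk i (K.d m (m + 1)) w).Exact) (i' : W ⟶ K.X (m + 1)) [Mono i']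
    (w' : i' ≫ K.d (m + 1) (m + 1 + 1) = 0) (hi' : (ShortComplex.mk i' (K.d (m + 1) (m + 1 + 1)) w').Exact)
    (hK : K.ExactAt (m + 1)) (g : K.X m ⟶ W) (hg : g ≫ i' = K.d m (m + 1)) (wg : i ≫ g = 0) :
    (ShortComplex.mk i g wg).ShortExact where
  mono_f := inferInstance
  exact := by
    let φ : ShortComplex.mk i g wg ⟶ ShortComplex.mk i (K.d m (m + 1)) w :=
      { τ₁ := 𝟙 _, τ₂ := 𝟙 _, τ₃ := i'
        comm₁₂ := by simp
        comm₂₃ := by
          dsimp
          rw [Category.id_comp, hg] }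
    have h1 : Mono φ.τ₃ := inferInstanceAs (Mono i')
    exact (ShortComplex.exact_iff_of_epi_of_isIso_of_mono φ).mpr hi
  epi_g := by
    have h1 : (K.sc' m (m + 1) (m + 1 + 1)).Exact :=
      (K.exactAt_iff' m (m + 1) (m + 1 + 1) (by simp) (by simp)).mp hK
    have h2 : Epi (kernel.lift (K.d (m + 1) (m + 1 + 1)) (K.d m (m + 1)) (K.d_comp_d _ _ _)) :=
      (ShortComplex.exact_iff_epi_kernel_lift _).mp h1
    let l : kernel (K.d (m + 1) (m + 1 + 1)) ⟶ W := hi'.lift (kernel.ι _) (kernel.condition _)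
    have hl : l ≫ i' = kernel.ι _ := hi'.lift_f _ _
    have h3 : IsIso l := by
      refine ⟨⟨kernel.lift _ i' w', ?_, ?_⟩⟩
      · rw [← cancel_mono (kernel.ι _), Category.assoc, kernel.lift_ι, hl, Category.id_comp]
      · rw [← cancel_mono i', Category.assoc, hl, kernel.lift_ι, Category.id_comp]
    have h4 : g = kernel.lift (K.d (m + 1) (m + 1 + 1)) (K.d m (m + 1)) (K.d_comp_d _ _ _) ≫ l := by
      rw [← cancel_mono i', Category.assoc, hl, kernel.lift_ι, hg]
    dsimp
    rw [h4]
    infer_instance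

variable [∀ j, Injective (K.X j)]

/-- Dimension shift in a complex of injectives. -/
theorem nonempty_pres (F : C) (i : ℕ) : ∀ (m n : ℕ) (_ : m + (i + 1) = n) (Y : C) (j : Y ⟶ K.X m) (_ : Mono j)
    (w : j ≫ K.d m (m + 1) = 0) (_ : (ShortComplex.mk j (K.d m (m + 1)) w).Exact)
    (_ : ∀ q, m < q → q ≤ n → K.ExactAt q), Nonempty (Pres R K F n (Ext F Y (i + 1))) := by
  induction i with
  | zero =>
    intro m n hn Y j _ w hj hK
    obtain rfl : n = m + 1 := by omega
    -- the kernel of the next differential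
    let j' : kernel (K.d (m + 1) (m + 1 + 1)) ⟶ K.X (m + 1) := kernel.ι _
    have w' : j' ≫ K.d (m + 1) (m + 1 + 1) = 0 := kernel.condition _
    have hj' : (ShortComplex.mk j' (K.d (m + 1) (m + 1 + 1)) w').Exact := ShortComplex.exact_kernel _
    let g : K.X m ⟶ kernel (K.d (m + 1) (m + 1 + 1)) := kernel.lift _ (K.d m (m + 1)) (K.d_comp_d _ _ _)
    have hg : g ≫ j' = K.d m (m + 1) := kernel.lift_ι _ _ _
    have wg : j ≫ g = 0 := by rw [← cancel_mono j', Category.assoc, hg, w, zero_comp]
    have hS := shortExact_step K j w hj j' w' hj' (hK _ (by omega) le_rfl) g hg wg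
    let ex : Ext F (kernel (K.d (m + 1) (m + 1 + 1))) 0 →ₗ[R] Ext F Y (0 + 1) :=
      Ext.postcompOfLinear hS.extClass R F rfl
    refine ⟨{ φ := ex ∘ₗ (Ext.linearEquiv₀ (R := R)).symm.toLinearMap ∘ₗ
                (equivZ (R := R) K j' w' hj').symm.toLinearMap
              surj := ?_, ker_iff := ?_ }⟩
    · intro x
      obtain ⟨y, hy⟩ := Ext.covariant_sequence_exact₁ F hS x (Ext.eq_zero_of_injective _) rfl
      refine ⟨equivZ (R := R) K j' w' hj' (Ext.linearEquiv₀ (R := R) y), ?_⟩
      rw [LinearMap.comp_apply, LinearMap.comp_apply]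
      simp only [LinearEquiv.coe_coe, LinearEquiv.symm_apply_apply]
      exact hy
    · intro x
      obtain ⟨f, rfl⟩ := (equivZ (R := R) K j' w' hj').surjective x
      rw [LinearMap.comp_apply, LinearMap.comp_apply]
      simp only [LinearEquiv.coe_coe, LinearEquiv.symm_apply_apply]
      rw [Ext.linearEquiv₀_symm_apply, equivZ_coe, isB_succ_iff]
      change (Ext.mk₀ f).comp hS.extClass (rfl : 0 + 1 = 0 + 1) = 0 ↔ _
      constructor
      · intro h
        obtain ⟨y, hy⟩ := Ext.covariant_sequence_exact₃ F hS (Ext.mk₀ f) rfl h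
        obtain ⟨y, rfl⟩ := (Ext.linearEquiv₀ (R := R)).symm.surjective y
        rw [Ext.linearEquiv₀_symm_apply] at hy
        refine ⟨y, ?_⟩
        have h1 : Ext.mk₀ (y ≫ g) = Ext.mk₀ f := by
          rw [← hy, Ext.mk₀_comp_mk₀]
        have h2 : y ≫ g = f := Ext.homEquiv₀.symm.injective h1
        rw [← h2, Category.assoc, hg]
      · rintro ⟨y, hy⟩
        have h2 : y ≫ g = f := by
          rw [← cancel_mono j', Category.assoc, hg, hy]
        rw [← h2, ← Ext.mk₀_comp_mk₀, Ext.comp_assoc_of_second_deg_zero, hS.comp_extClass, Ext.comp_zero]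
  | succ i ih =>
    intro m n hn Y j _ w hj hK
    let j' : kernel (K.d (m + 1) (m + 1 + 1)) ⟶ K.X (m + 1) := kernel.ι _
    have w' : j' ≫ K.d (m + 1) (m + 1 + 1) = 0 := kernel.condition _
    have hj' : (ShortComplex.mk j' (K.d (m + 1) (m + 1 + 1)) w').Exact := ShortComplex.exact_kernel _
    let g : K.X m ⟶ kernel (K.d (m + 1) (m + 1 + 1)) := kernel.lift _ (K.d m (m + 1)) (K.d_comp_d _ _ _)
    have hg : g ≫ j' = K.d m (m + 1) := kernel.lift_ι _ _ _
    have wg : j ≫ g = 0 := by rw [← cancel_mono j', Category.assoc, hg, w, zero_comp]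
    have hS := shortExact_step K j w hj j' w' hj' (hK _ (by omega) (by omega)) g hg wg
    obtain ⟨P⟩ := ih (m + 1) n (by omega) _ j' inferInstance w' hj' (fun q h1 h2 => hK q (by omega) h2)
    let ex : Ext F (kernel (K.d (m + 1) (m + 1 + 1))) (i + 1) →ₗ[R] Ext F Y (i + 1 + 1) :=
      Ext.postcompOfLinear hS.extClass R F rfl
    have hex : Function.Bijective ex := by
      constructor
      · rw [injective_iff_map_eq_zero]
        intro x hx
        obtain ⟨y, rfl⟩ := Ext.covariant_sequence_exact₃ F hS x rfl hx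
        rw [Ext.eq_zero_of_injective y, Ext.zero_comp]
      · intro x
        exact Ext.covariant_sequence_exact₁ F hS x (Ext.eq_zero_of_injective _) rfl
    exact ⟨P.congr (LinearEquiv.ofBijective ex hex)⟩

omit [HasExt.{w} C] [∀ j, Injective (K.X j)] in
theorem exact_iCycles (m : ℕ) : (ShortComplex.mk (K.iCycles m) (K.d m (m + 1)) (K.iCycles_d _ _)).Exact :=
  ShortComplex.exact_of_f_is_kernel _ (K.cyclesIsKernel m (m + 1) (by simp))

omit [HasExt.{w} C] in
/-- The cocycle objects are injective below the degree where the complex stops being exact. -/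
theorem injective_cycles (c : ℕ) (hK : ∀ q, q < c → K.ExactAt q) (m : ℕ) (hm : m < c) :
    Injective (K.cycles m) := by
  induction m with
  | zero =>
    have h1 := (K.exactAt_iff' 0 0 1 (by simp) (by simp)).mp (hK 0 hm)
    have h2 : Mono (K.d 0 1) := by
      have h3 : (K.sc' 0 0 1).f = 0 := K.shape 0 0 (by simp)
      exact h1.mono_g h3
    have h4 : K.iCycles 0 = 0 := by
      rw [← cancel_mono (K.d 0 1), K.iCycles_d, zero_comp]
    exact (IsZero.of_mono_eq_zero _ h4).injective
  | succ m ih =>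
    have := ih (by omega)
    have wg : K.iCycles m ≫ K.toCycles m (m + 1) = 0 := by
      rw [← cancel_mono (K.iCycles (m + 1)), Category.assoc, K.toCycles_i, K.iCycles_d, zero_comp]
    have hS := shortExact_step K (K.iCycles m) (K.iCycles_d _ _) (exact_iCycles K m) (K.iCycles (m + 1))
      (K.iCycles_d _ _) (exact_iCycles K (m + 1)) (hK (m + 1) hm) (K.toCycles m (m + 1)) (K.toCycles_i _ _) wg
    have h5 : Injective (ShortComplex.mk (K.iCycles m) (K.toCycles m (m + 1)) wg).X₁ := this
    have sp := hS.splittingOfInjective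
    exact (Retract.mk sp.s (K.toCycles m (m + 1)) sp.s_g : Retract (K.cycles (m + 1)) (K.X m)).injective

/-- The boundaries: the kernel of `Z^c → H^c`. -/
noncomputable abbrev bd (c : ℕ) : C := kernel (K.homologyπ c)

omit [HasExt.{w} C] [∀ j, Injective (K.X j)] in
theorem shortExact_bd (c : ℕ) :
    (ShortComplex.mk (kernel.ι (K.homologyπ c)) (K.homologyπ c) (kernel.condition _)).ShortExact :=
  ShortComplex.ShortExact.mk (ShortComplex.exact_kernel _)

omit [HasExt.{w} C] [∀ j, Injective (K.X j)] in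
/-- In degree zero there are no boundaries. -/
theorem isZero_bd_zero : IsZero (bd K 0) := isZero_kernel_of_mono _

/-- the map `K^c → B^{c+1}` -/
noncomputable def toBd (c : ℕ) : K.X c ⟶ bd K (c + 1) :=
  kernel.lift _ (K.toCycles c (c + 1)) (K.toCycles_comp_homologyπ _ _)

omit [HasExt.{w} C] [∀ j, Injective (K.X j)] in
theorem toBd_ι (c : ℕ) : toBd K c ≫ kernel.ι (K.homologyπ (c + 1)) = K.toCycles c (c + 1) := kernel.lift_ι _ _ _

omit [HasExt.{w} C] [∀ j, Injective (K.X j)] in
theorem toBd_ι_i (c : ℕ) : toBd K c ≫ kernel.ι (K.homologyπ (c + 1)) ≫ K.iCycles (c + 1) = K.d c (c + 1) := by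
  rw [← Category.assoc, toBd_ι, K.toCycles_i]

omit [HasExt.{w} C] [∀ j, Injective (K.X j)] in
theorem iCycles_toBd (c : ℕ) : K.iCycles c ≫ toBd K c = 0 := by
  rw [← cancel_mono (kernel.ι (K.homologyπ (c + 1)) ≫ K.iCycles (c + 1)), Category.assoc, toBd_ι_i, K.iCycles_d,
    zero_comp]

omit [HasExt.{w} C] [∀ j, Injective (K.X j)] in
theorem shortExact_toBd (c : ℕ) : (ShortComplex.mk (K.iCycles c) (toBd K c) (iCycles_toBd K c)).ShortExact where
  mono_f := inferInstanceAs (Mono (K.iCycles c))
  exact := by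
    let φ : ShortComplex.mk (K.iCycles c) (toBd K c) (iCycles_toBd K c) ⟶
        ShortComplex.mk (K.iCycles c) (K.d c (c + 1)) (K.iCycles_d _ _) :=
      { τ₁ := 𝟙 _, τ₂ := 𝟙 _, τ₃ := kernel.ι (K.homologyπ (c + 1)) ≫ K.iCycles (c + 1)
        comm₁₂ := by simp
        comm₂₃ := by
          dsimp
          rw [Category.id_comp, toBd_ι_i] }
    have h1 : Mono φ.τ₃ := mono_comp (kernel.ι (K.homologyπ (c + 1))) (K.iCycles (c + 1))
    exact (ShortComplex.exact_iff_of_epi_of_isIso_of_mono φ).mpr (exact_iCycles K c)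
  epi_g := by
    have h1 : (ShortComplex.mk (K.toCycles c (c + 1)) (K.homologyπ (c + 1))
      (K.toCycles_comp_homologyπ _ _)).Exact :=
      ShortComplex.exact_of_g_is_cokernel _ (K.homologyIsCokernel c (c + 1) (by simp))
    exact (ShortComplex.exact_iff_epi_kernel_lift _).mp h1

omit [HasExt.{w} C] in
/-- Maps to the boundaries lift. -/
theorem exists_lift_bd (c : ℕ) (hK : ∀ q, q < c → K.ExactAt q) {F : C} (f : F ⟶ bd K c) :
    IsB K F c (f ≫ kernel.ι _ ≫ K.iCycles c) := by
  cases c with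
  | zero =>
    rw [isB_zero_iff, (isZero_bd_zero K).eq_of_tgt f 0, zero_comp]
  | succ c =>
    have h1 : Injective (ShortComplex.mk (K.iCycles c) (toBd K c) (iCycles_toBd K c)).X₁ :=
      injective_cycles K (c + 1) hK c (Nat.lt_succ_self c)
    have sp := (shortExact_toBd K c).splittingOfInjective
    rw [isB_succ_iff]
    refine ⟨f ≫ sp.s, ?_⟩
    have h2 : sp.s ≫ toBd K c = 𝟙 _ := sp.s_g
    rw [← toBd_ι_i, Category.assoc, reassoc_of% h2]

omit [HasExt.{w} C] in
theorem injective_bd (c : ℕ) (hK : ∀ q, q < c → K.ExactAt q) : Injective (bd K c) := by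
  cases c with
  | zero => exact (isZero_bd_zero K).injective
  | succ c =>
    have h1 : Injective (ShortComplex.mk (K.iCycles c) (toBd K c) (iCycles_toBd K c)).X₁ :=
      injective_cycles K (c + 1) hK c (Nat.lt_succ_self c)
    have sp := (shortExact_toBd K c).splittingOfInjective
    exact (Retract.mk sp.s (toBd K c) sp.s_g : Retract (bd K (c + 1)) (K.X c)).injective

/-- The class of a cocycle: the map to the cohomology object. -/
noncomputable def cls (R : Type t) [CommRing R] [Linear R C] (c : ℕ) {ω : C} (e : K.homology c ≅ ω) (F : C) :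
    Z R K F c →ₗ[R] (F ⟶ ω) where
  toFun z := K.liftCycles z.1 (c + 1) (by simp) z.2 ≫ K.homologyπ c ≫ e.hom
  map_add' z z' := by
    rw [← Preadditive.add_comp]
    congr 1
    rw [← cancel_mono (K.iCycles c), Preadditive.add_comp, K.liftCycles_i, K.liftCycles_i, K.liftCycles_i]
    rfl
  map_smul' r z := by
    rw [RingHom.id_apply, ← Linear.smul_comp]
    congr 1
    rw [← cancel_mono (K.iCycles c), Linear.smul_comp, K.liftCycles_i, K.liftCycles_i]
    rfl

omit [HasExt.{w} C] [∀ j, Injective (K.X j)] in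
theorem cls_apply (c : ℕ) {ω : C} (e : K.homology c ≅ ω) (F : C) (z : Z R K F c) :
    cls K R c e F z = K.liftCycles z.1 (c + 1) (by simp) z.2 ≫ K.homologyπ c ≫ e.hom := rfl

omit [HasExt.{w} C] [∀ j, Injective (K.X j)] in
theorem cls_naturality (c : ℕ) {ω : C} (e : K.homology c ≅ ω) {F F' : C} (g : F' ⟶ F) (z : Z R K F c)
    (z' : Z R K F' c) (h : z'.1 = g ≫ z.1) : cls K R c e F' z' = g ≫ cls K R c e F z := by
  rw [cls_apply, cls_apply, ← Category.assoc g]
  congr 1
  rw [← cancel_mono (K.iCycles c), K.liftCycles_i, h, Category.assoc, K.liftCycles_i]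

/-- Degree zero. -/
noncomputable def presZero (c : ℕ) (hK : ∀ q, q < c → K.ExactAt q) {ω : C} (e : K.homology c ≅ ω) (F : C) :
    Pres R K F c (F ⟶ ω) where
  φ := cls K R c e F
  surj f := by
    have := injective_bd K c hK
    have h1 : Injective (ShortComplex.mk (kernel.ι (K.homologyπ c)) (K.homologyπ c) (kernel.condition _)).X₁ := this
    have sp := (shortExact_bd K c).splittingOfInjective
    refine ⟨⟨f ≫ e.inv ≫ sp.s ≫ K.iCycles c, by rw [mem_Z]; simp⟩, ?_⟩
    rw [cls_apply]
    have h2 : K.liftCycles (f ≫ e.inv ≫ sp.s ≫ K.iCycles c) (c + 1) (by simp) (by simp) = f ≫ e.inv ≫ sp.s := by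
      rw [← cancel_mono (K.iCycles c), K.liftCycles_i, Category.assoc, Category.assoc]
    have h3 : sp.s ≫ K.homologyπ c = 𝟙 _ := sp.s_g
    rw [h2, Category.assoc, Category.assoc, reassoc_of% h3, e.inv_hom_id, Category.comp_id]
  ker_iff z := by
    rw [cls_apply]
    constructor
    · intro h
      have h1 : K.liftCycles z.1 (c + 1) (by simp) z.2 ≫ K.homologyπ c = 0 := by
        rw [← cancel_mono e.hom, Category.assoc, h, zero_comp]
      have h2 := exists_lift_bd K c hK (kernel.lift _ _ h1)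
      rw [kernel.lift_ι_assoc, K.liftCycles_i] at h2
      exact h2
    · intro h
      cases c with
      | zero =>
        rw [isB_zero_iff] at h
        have h1 : K.liftCycles z.1 (0 + 1) (by simp) z.2 = 0 := by
          rw [← cancel_mono (K.iCycles 0), K.liftCycles_i, h, zero_comp]
        rw [h1, zero_comp]
      | succ c =>
        rw [isB_succ_iff] at h
        obtain ⟨g, hg⟩ := h
        have h1 : K.liftCycles z.1 (c + 1 + 1) (by simp) z.2 = g ≫ K.toCycles c (c + 1) := by
          rw [← cancel_mono (K.iCycles (c + 1)), K.liftCycles_i, Category.assoc, K.toCycles_i, hg]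
        rw [h1, Category.assoc, K.toCycles_comp_homologyπ_assoc, zero_comp, comp_zero]

/-- **`Ext` into the cohomology of a complex of injectives which is exact in a range.** -/
theorem nonempty_presH (F : C) (c i n : ℕ) (hn : c + i = n) (hlow : ∀ q, q < c → K.ExactAt q)
    (hhigh : ∀ q, c < q → q ≤ n → K.ExactAt q) {ω : C} (e : K.homology c ≅ ω) :
    Nonempty (Pres R K F n (Ext F ω i)) := by
  cases i with
  | zero =>
    obtain rfl : n = c := by omega
    exact ⟨(presZero K n hlow e F).congr (Ext.linearEquiv₀ (R := R)).symm⟩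
  | succ i =>
    obtain ⟨P⟩ := nonempty_pres (R := R) K F i c n hn (K.cycles c) (K.iCycles c) inferInstance (K.iCycles_d _ _)
      (exact_iCycles K c) hhigh
    have := injective_bd K c hlow
    have hS := shortExact_bd K c
    let g : Ext F (K.cycles c) (i + 1) →ₗ[R] Ext F (K.homology c) (i + 1) :=
      Ext.postcompOfLinear (Ext.mk₀ (K.homologyπ c)) R F (add_zero _)
    have hg : Function.Bijective g := by
      constructor
      · rw [injective_iff_map_eq_zero]
        intro x hx
        obtain ⟨y, rfl⟩ := Ext.covariant_sequence_exact₂ F hS x hx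
        rw [Ext.eq_zero_of_injective y, Ext.zero_comp]
      · intro x
        exact Ext.covariant_sequence_exact₃ F hS x rfl (Ext.eq_zero_of_injective _)
    let g' : Ext F (K.homology c) (i + 1) →ₗ[R] Ext F ω (i + 1) :=
      Ext.postcompOfLinear (Ext.mk₀ e.hom) R F (add_zero _)
    have hg' : Function.Bijective g' := by
      refine Function.bijective_iff_has_inverse.mpr ⟨fun x => x.comp (Ext.mk₀ e.inv) (add_zero _), fun x => ?_,
        fun x => ?_⟩
      · change (x.comp (Ext.mk₀ e.hom) (add_zero _)).comp (Ext.mk₀ e.inv) (add_zero _) = x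
        rw [Ext.comp_assoc_of_third_deg_zero, Ext.mk₀_comp_mk₀, e.hom_inv_id, Ext.comp_mk₀_id]
      · change (x.comp (Ext.mk₀ e.inv) (add_zero _)).comp (Ext.mk₀ e.hom) (add_zero _) = x
        rw [Ext.comp_assoc_of_third_deg_zero, Ext.mk₀_comp_mk₀, e.inv_hom_id, Ext.comp_mk₀_id]
    exact ⟨(P.congr (LinearEquiv.ofBijective g hg)).congr (LinearEquiv.ofBijective g' hg')⟩

end Main

end K274.PartRes
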