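import Groth.Agent.ProjDual.K274.SmoothDual
import Groth.Agent.ProjDual.K274.CohDesc
import Groth.Agent.ProjDual.K274.ExtCoh
import Groth.Agent.Fga.DimCut
import Groth.Agent.Lefpen.H703.ClosedSmooth
import Groth.Agent.CycA.ProdDim
import Groth.Agent.Coherent.K48.ExtRestr
import Groth.Agent.Dual.H328.ClopenGlue
import Groth.Agent.Dual.H375.ExtRestr
import Groth.Agent.Dcoh.PushRestrict
import Groth.Agent.Dual.H337.CohR

/-!
# The dualizing sheaf on the regular locus

* `nonempty_iso_of_isDualizing`: uniqueness of the dualizing sheaf;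
* `main`: on an open set `U` of regular points of an integral closed subscheme of `P^N_k`, `k` perfect, the dualizing sheaf
  is the sheaf of top forms.
-/

set_option autoImplicit false
universe u

open CategoryTheory CategoryTheory.Limits AlgebraicGeometry Abelian

namespace K274.RegLocus

open Groth.Agent Groth.Agent.Sga2.PnHHDelta Groth.Agent.Dcoh.MonClosed K274.PnSerre K274.SerreRes K274.Shift
  K274.ClosedDual

section Unique

variable {k : Type u} [Field k] {X : Scheme.{u}} [X.Over (Spec (CommRingCat.of k))] {n : ℕ} {ω ω' : X.Modules}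
  {t : (hF k X n).obj ω →ₗ[k] k} {t' : (hF k X n).obj ω' →ₗ[k] k}

/-- A dualizing sheaf has no endomorphism compatible with the trace but the identity. -/
theorem eq_id (hω : Coh.IsCoh ω) (h : IsDualizing k n ω t) (φ : ω ⟶ ω)
    (hφ : ∀ x : (hF k X n).obj ω, t x = t (((hF k X n).map φ).hom x)) : φ = 𝟙 ω := by
  obtain ⟨φ₀, -, h2⟩ := h ω hω t
  rw [h2 φ hφ]
  refine (h2 (𝟙 ω) fun x => ?_).symm
  rw [CategoryTheory.Functor.map_id]
  rfl

/-- **Uniqueness of the dualizing sheaf.** -/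
theorem nonempty_iso_of_isDualizing (hω : Coh.IsCoh ω) (hω' : Coh.IsCoh ω') (h : IsDualizing k n ω t)
    (h' : IsDualizing k n ω' t') : Nonempty (ω ≅ ω') := by
  obtain ⟨a, ha, -⟩ := h' ω hω t
  obtain ⟨b, hb, -⟩ := h ω' hω' t'
  refine ⟨⟨a, b, eq_id hω h _ fun x => ?_, eq_id hω' h' _ fun x => ?_⟩⟩
  · rw [Functor.map_comp, ha, hb]
    rfl
  · rw [Functor.map_comp, hb, ha]
    rfl

end Unique

section Ext

variable {X : Scheme.{u}}

/-- `R^q Hom(F, -)` depends only on the isomorphism class of `F`. -/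
theorem nonempty_rd_iso [HasInjectiveResolutions X.Modules] {F F' : X.Modules} (e : F ≅ F') {G G' : X.Modules}
    (e' : G ≅ G') (q : ℕ) : Nonempty (((homFunctor F).rightDerived q).obj G ≅ ((homFunctor F').rightDerived q).obj G') := by
  let i : homFunctor F ≅ homFunctor F' :=
    (Htor.H255.ExtRD.flipAdj F).rightAdjointUniq
      ((Htor.H255.ExtRD.flipAdj F').ofNatIsoLeft ((DCoh.tensorBi (X := X)).flip.mapIso e.symm))
  exact ⟨(Sga4h.RDExact.congrIso i q).app G ≪≫ ((homFunctor F').rightDerived q).mapIso e'⟩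

end Ext

variable (k : Type u) [Field k] [PerfectField k] (N n : ℕ) (X : Scheme.{u}) [X.Over (Spec (CommRingCat.of k))]
  [IsIntegral X] (hdim : topologicalKrullDim X = (n : WithBot ℕ∞)) (ι : X ⟶ CohB1.ProjSpace N k) [IsClosedImmersion ι]
  (hι : ι ≫ CohB1.ProjSpace.toSpec N k = X ↘ Spec (CommRingCat.of k))

include hdim in
/-- Open sets of regular points are smooth. -/
theorem smooth_open [LocallyOfFiniteType (X ↘ Spec (CommRingCat.of k))] (U : X.Opens) [Nonempty U]
    (hU : ∀ x ∈ U, IsRegularLocalRing (X.presheaf.stalk x)) :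
    SmoothOfRelativeDimension n (U.ι ≫ (X ↘ Spec (CommRingCat.of k))) := by
  let _ : (U : Scheme.{u}).Over (Spec (CommRingCat.of k)) := ⟨U.ι ≫ (X ↘ Spec (CommRingCat.of k))⟩
  have h1 : LocallyOfFiniteType ((U : Scheme.{u}) ↘ Spec (CommRingCat.of k)) :=
    inferInstanceAs (LocallyOfFiniteType (U.ι ≫ (X ↘ Spec (CommRingCat.of k))))
  refine Lefpen.H703.ClosedSmooth.smoothOfRelativeDimension_of_closed _ n fun z hz => ⟨?_, ?_⟩
  · have := hU (U.ι z) z.2
    let e : X.presheaf.stalk (U.ι z) ≃+* (U : Scheme.{u}).presheaf.stalk z :=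
      (asIso (U.ι.stalkMap z)).commRingCatIsoToRingEquiv
    exact IsRegularLocalRing.of_ringEquiv e
  · rw [Fga.DimCut.ringKrullDim_stalk_eq k (U : Scheme.{u}) z hz,
      CycA.ProdDim.dim_of_isOpenImmersion (X ↘ Spec (CommRingCat.of k)) U.ι, hdim]

include hdim hι in
/-- **The dualizing sheaf on the regular locus.** -/
theorem main (U : X.Opens) [Nonempty U] (hU : ∀ x ∈ U, IsRegularLocalRing (X.presheaf.stalk x)) (ω : X.Modules)
    (hω : Coh.IsCoh ω) (t : (hF k X n).obj ω →ₗ[k] k) (ht : IsDualizing k n ω t) (W : (U : Scheme.{u}).Modules)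
    (hW : ExtPow.IsExtPow n (Omega.sheaf (U.ι ≫ (X ↘ Spec (CommRingCat.of k)))) W) :
    Nonempty ((Scheme.Modules.restrictFunctor U.ι).obj ω ≅ W) := by
  have hNP : IsLocallyNoetherian (CohB1.ProjSpace N k) := isLocallyNoetherian k N
  have hlft : LocallyOfFiniteType (X ↘ Spec (CommRingCat.of k)) := by
    rw [← hι]
    infer_instance
  have hnN : n ≤ N := by
    have hne : Nonempty (CohB1.ProjSpace N k) := ⟨ι (Classical.arbitrary X)⟩
    have h2 : topologicalKrullDim X ≤ topologicalKrullDim (CohB1.ProjSpace N k) :=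
      (Scheme.Hom.isClosedEmbedding ι).isInducing.topologicalKrullDim_le
    rw [hdim, SmoothDual.dim_projSpace] at h2
    exact_mod_cast h2
  have hsh := K50.SectOn.hasSheafHom (X := CohB1.ProjSpace N k)
    ((Scheme.Modules.pushforward ι).obj (Coh.structureModule X))
  have := CurvesC.ExtUnit.enoughInjectives_modules (CohB1.ProjSpace N k)
  have : HasInjectiveResolutions (ModSite.Mod (CohB1.ProjSpace N k).sheaf) :=
    inferInstanceAs (HasInjectiveResolutions (CohB1.ProjSpace N k).Modules)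
  have := hasHomO ι
  let J : InjectiveResolution (om k N) := injectiveResolution _
  let ω' : X.Modules := (cx (Dual3.homO ι) J).homology (N - n)
  let e' : (Scheme.Modules.pushforward ι).obj ω' ≅ (ModSite.extSh (O := (CohB1.ProjSpace N k).sheaf)
      ((Scheme.Modules.pushforward ι).obj (Coh.structureModule X)) (N - n)).obj (om k N) :=
    (extShPush ι J (N - n)).symm
  have hω' : Coh.IsCoh ω' := CohDesc.isCoh_of_push ι (PerfA.CohSerre.isCoh_of_iso e'.symm
    (ExtCoh.isCoh_extSh (Dual.H337.CohR.isCoh_push ι) (PnTwist.isCoh_tw N k _) (N - n)))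
  obtain ⟨t', ht'⟩ := PnDual.exists_dualizing k N n hnN X ι hι hdim.le ω' ⟨e'⟩
  obtain ⟨eω⟩ := nonempty_iso_of_isDualizing hω hω' ht ht'
  -- the open subset is the preimage of an open subset
  obtain ⟨V, rfl⟩ : ∃ V : (CohB1.ProjSpace N k).Opens, ι ⁻¹ᵁ V = U := by
    obtain ⟨V, hV, hVU⟩ := (Scheme.Hom.isClosedEmbedding ι).isInducing.isOpen_iff.mp U.2
    exact ⟨⟨V, hV⟩, TopologicalSpace.Opens.ext hVU⟩
  have hsmU := smooth_open k n X hdim (ι ⁻¹ᵁ V) hU
  have hcomp : (ι ∣_ V) ≫ V.ι ≫ CohB1.ProjSpace.toSpec N k = (ι ⁻¹ᵁ V).ι ≫ (X ↘ Spec (CommRingCat.of k)) := by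
    rw [← hι, ← Category.assoc, morphismRestrict_ι, Category.assoc]
  have hsmV : SmoothOfRelativeDimension N (V.ι ≫ CohB1.ProjSpace.toSpec N k) :=
    IsZariskiLocalAtSource.comp (P := @SmoothOfRelativeDimension N)
      (inferInstanceAs (SmoothOfRelativeDimension N (CohB1.ProjSpace.toSpec N k))) V.ι
  obtain ⟨ΩP, hΩP⟩ := K54.HodgePn.exists_extPow_omega N k N
  obtain ⟨eΩ⟩ := TopForms.nonempty_iso N k ΩP hΩP
  have hΩ := Vancyc.H878.OmegaRank.isFinLocFreeOfRank_omega N (V.ι ≫ CohB1.ProjSpace.toSpec N k)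
  obtain ⟨ΩV, hΩV⟩ := Dual.H366.ExtQCoh.exists_isExtPow N
    (Ega2.QCohLocal.isQCoh_of_isFinLocFree (Ega2.QCohLocal.isFinLocFree_of_rank hΩ))
  obtain ⟨eV⟩ := Dual.H328.ClopenGlue.nonempty_ext_restrict (CohB1.ProjSpace.toSpec N k) V hΩP hΩV
  have hshV := K50.SectOn.hasSheafHom (X := (V : Scheme.{u}))
    ((Scheme.Modules.pushforward (ι ∣_ V)).obj (Coh.structureModule (ι ⁻¹ᵁ V)))
  have hshV' := K50.SectOn.hasSheafHom (X := (V : Scheme.{u}))
    (((Scheme.Modules.pushforward ι).obj (Coh.structureModule X)).restrict V.ι)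
  have := CurvesC.ExtUnit.enoughInjectives_modules (V : Scheme.{u})
  have : HasInjectiveResolutions (ModSite.Mod (V : Scheme.{u}).sheaf) :=
    inferInstanceAs (HasInjectiveResolutions (V : Scheme.{u}).Modules)
  obtain ⟨e1⟩ := S11906.result (Spec (CommRingCat.of k)) (V : Scheme.{u}) (ι ⁻¹ᵁ V : X.Opens)
    (V.ι ≫ CohB1.ProjSpace.toSpec N k) ((ι ⁻¹ᵁ V).ι ≫ (X ↘ Spec (CommRingCat.of k))) (ι ∣_ V) hcomp N n
    ΩV hΩV W hW
  obtain ⟨e2⟩ := K48.ExtRestr.nonempty_extSh_restrict V.ι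
    ((Scheme.Modules.pushforward ι).obj (Coh.structureModule X)) (om k N) (N - n)
  have eO : ((Scheme.Modules.pushforward ι).obj (Coh.structureModule X)).restrict V.ι ≅
      (Scheme.Modules.pushforward (ι ∣_ V)).obj (Coh.structureModule (ι ⁻¹ᵁ V)) :=
    (Dcoh.PushRestrict.pushMorphismRestrictIso ι V).app _ ≪≫
      (Scheme.Modules.pushforward (ι ∣_ V)).mapIso (Scheme.Modules.restrictUnitIso _)
  have eM : (om k N).restrict V.ι ≅ ΩV := (Scheme.Modules.restrictFunctor V.ι).mapIso eΩ.symm ≪≫ eV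
  obtain ⟨e3⟩ := nonempty_rd_iso eO eM (N - n)
  have e4 : (Scheme.Modules.pushforward (ι ∣_ V)).obj W ≅ (Scheme.Modules.pushforward (ι ∣_ V)).obj
      ((Scheme.Modules.restrictFunctor (ι ⁻¹ᵁ V).ι).obj ω) :=
    e1 ≪≫ ExtCoh.extShIsoRD _ ΩV (N - n) ≪≫ e3.symm ≪≫ (ExtCoh.extShIsoRD _ _ (N - n)).symm ≪≫ e2.symm ≪≫
      (Scheme.Modules.restrictFunctor V.ι).mapIso (e'.symm ≪≫ (Scheme.Modules.pushforward ι).mapIso eω.symm) ≪≫
      (Dcoh.PushRestrict.pushMorphismRestrictIso ι V).app _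
  exact ⟨(PnDual.isoOfPush (ι ∣_ V) e4).symm⟩

end K274.RegLocus
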