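import Groth.Agent.ProjDual.K274.AcycPres
import Groth.Agent.ProjDual.K274.ExtTwist
import Groth.Agent.ProjDual.K274.ExtCoh
import Groth.Agent.ProjDual.K274.ClosedSerre
import Groth.Agent.Coherent.K49.HomFlasque

/-!
# `Ext^i(F, G(d)) ≃ₗ H^0(X, Ext^i(F, G(d)))` for `d` large

`X` is a closed subscheme of `P^n_A`, `A` Noetherian.
-/

set_option autoImplicit false
universe w u

open CategoryTheory CategoryTheory.Limits AlgebraicGeometry Abelian

namespace K274.SecExt

open Groth.Agent Groth.Agent.Sga2.PnHHDelta Groth.Agent.Dcoh.MonClosed Groth.Agent.Htor.H255.ExtRD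
  K274.AcycPres K274.Shift K274.ClosedSerre

variable (A : Type u) [CommRing A] {X : Scheme.{u}} [X.Over (Spec (CommRingCat.of A))] [HasExt.{w} X.Modules]

include A in
theorem acyc_of_HH {M : X.Modules} (h : ∀ a : ℕ, 0 < a → Subsingleton (Coh.HH X M a)) :
    Acyc.{w} (Coh.structureModule X) M := fun a ha => by
  have : Subsingleton ((hF A X a).obj M) := h a ha
  exact (ExtLin.eH A M a).toEquiv.subsingleton

/-- Sections of the Ext sheaf, if the lower Ext sheaves have no higher cohomology. -/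
theorem nonempty_equiv_of_van (F M : X.Modules) [ModSite.HasSheafHom (O := X.sheaf) F]
    [HasInjectiveResolutions (ModSite.Mod X.sheaf)] [HasInjectiveResolutions X.Modules] (i : ℕ)
    (h : ∀ q : ℕ, q < i → ∀ a : ℕ, 0 < a → Subsingleton (Coh.HH X (((homFunctor F).rightDerived q).obj M) a)) :
    Nonempty (Ext.{w} F M i ≃ₗ[A] Coh.HH X ((ModSite.extSh (O := X.sheaf) F i).obj M : X.Modules) 0) := by
  let J : InjectiveResolution M := injectiveResolution M
  have := TensLin.linear_tensorRightMod A F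
  obtain ⟨e1⟩ := nonempty_equiv (R := A) (ExtTwist.adjR F) J i (Coh.structureModule X)
    (fun j => acyc_of_HH A (fun a ha => K49.HomFlasque.subsingleton_HH_homSheaf F (J.cocomplex.X j) a ha))
    (fun q hq => (acyc_of_HH A (h q hq)).of_iso (J.isoRightDerivedObj (homFunctor F) q))
    (ShBridge.extShObjIso i J (flipAdj F)).symm
  obtain ⟨e0⟩ := TensLin.nonempty_extIsoLeft.{w} A (Ega2.Tens.lunit F).symm M i
  exact ⟨(e0.trans e1).trans ((Ext.linearEquiv₀ (R := A)).symm.trans
    (ExtLin.eH A ((ModSite.extSh (O := X.sheaf) F i).obj M : X.Modules) 0))⟩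

variable [IsNoetherianRing A] (n : ℕ) (ι : X ⟶ CohB1.ProjSpace n A) [IsClosedImmersion ι]

/-- **Sections of the Ext sheaf of a large twist.** -/
theorem nonempty_equiv (F G : X.Modules) (hF' : Coh.IsCoh F) (hG : Coh.IsCoh G)
    [ModSite.HasSheafHom (O := X.sheaf) F] [HasInjectiveResolutions (ModSite.Mod X.sheaf)] (i : ℕ) :
    ∃ d₀ : ℕ, ∀ d : ℕ, d₀ ≤ d →
      Nonempty (Ext.{w} F (CohB1.tensorMod G (twX n A ι d)) i ≃ₗ[A]
        Coh.HH X ((ModSite.extSh (O := X.sheaf) F i).obj (CohB1.tensorMod G (twX n A ι d)) : X.Modules) 0) := by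
  have : HasInjectiveResolutions X.Modules := ShBridge.hasInj
  have := isNoetherian n A ι
  choose D hD using fun q : ℕ => serre n A ι _ (ExtCoh.isCoh_rightDerived hF' hG q)
  refine ⟨(Finset.range i).sup fun q => (D q).toNat, fun d hd => nonempty_equiv_of_van A F _ i fun q hq a ha => ?_⟩
  have h1 : (D q).toNat ≤ d :=
    (Finset.le_sup (f := fun q => (D q).toNat) (Finset.mem_range.mpr hq)).trans hd
  exact CohqA.DirectSum.subsingleton_of_iso ((ExtTwist.rdTwist (inv n A ι d (-(d : ℤ)) (by omega)) F q).app G) a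
    (hD q d (by omega) a ha)

end K274.SecExt
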