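import Mathlib.Algebra.Homology.DerivedCategory.Ext.ExactSequences
import Mathlib.Algebra.Homology.DerivedCategory.Ext.Linear
import Mathlib.LinearAlgebra.Dual.Lemmas

/-!
# Duality for the Yoneda pairing, from degree zero to all degrees

`C` is a `k`-linear abelian category, `t : Ext^N(O, ω) → k` a linear form.  The pairing
`Ext^a(G, ω) × Ext^b(O, G) → Ext^N(O, ω) → k`, `a + b = N`, is `pair t a b`.

* `bijective`: if it is perfect (`Ext^a(G, ω) → Ext^b(O, G)^*` bijective) for `a = 0`, and every `G` is a quotient of a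
  suitably acyclic `L`, it is perfect in the whole range;
* `subsingleton_of_lt`: `Ext^a(G, ω) = 0` for `a > N`.
-/

set_option autoImplicit false

universe t w v u

open CategoryTheory Abelian

namespace K274.YonedaDual

variable {C : Type u} [Category.{v} C] [Abelian C] [HasExt.{w} C] {k : Type t} [Field k] [Linear k C]
  {O ω : C} {N : ℕ} (tr : Ext O ω N →ₗ[k] k)

/-- The map `Ext^a(G, ω) → Ext^b(O, G)^*` given by the Yoneda product followed by `tr`. -/
noncomputable def pair (a b : ℕ) (h : b + a = N) (G : C) : Ext G ω a →ₗ[k] Module.Dual k (Ext O G b) :=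
  ((Ext.bilinearCompOfLinear k O G ω b a N h).flip).compr₂ tr

@[simp]
theorem pair_apply (a b : ℕ) (h : b + a = N) (G : C) (e : Ext G ω a) (x : Ext O G b) :
    pair tr a b h G e x = tr (x.comp e h) := rfl

theorem pair_mk₀ (a b : ℕ) (h : b + a = N) {G G' : C} (g : G' ⟶ G) (e : Ext G ω a) (x : Ext O G' b) :
    pair tr a b h G' ((Ext.mk₀ g).comp e (zero_add a)) x =
      pair tr a b h G e (x.comp (Ext.mk₀ g) (add_zero b)) := by
  rw [pair_apply, pair_apply, Ext.comp_assoc_of_second_deg_zero]

theorem pair_extClass (a a' b b' : ℕ) (h : b + a = N) (h' : b' + a' = N) (ha : 1 + a' = a) (hb : b + 1 = b')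
    {S : ShortComplex C} (hS : S.ShortExact) (e : Ext S.X₁ ω a') (x : Ext O S.X₃ b) :
    pair tr a b h S.X₃ (hS.extClass.comp e ha) x =
      pair tr a' b' h' S.X₁ e (x.comp hS.extClass hb) := by
  rw [pair_apply, pair_apply]
  congr 1
  rw [Ext.comp_assoc x hS.extClass e hb ha (by omega)]

/-- The resolution property: `G` is the quotient of an object `L` of the class `P`, with kernel in `P`, such that
`Ext^a(L, ω) = 0` for `0 < a ≤ A` and `Ext^b(O, L) = 0` for `N - A ≤ b < N`. -/
def HasRes (P : C → Prop) (O ω : C) (N A : ℕ) (G : C) : Prop :=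
  ∃ S : ShortComplex C, S.ShortExact ∧ S.X₃ = G ∧ P S.X₁ ∧ P S.X₂ ∧
    (∀ a, 0 < a → a ≤ A → Subsingleton (Ext S.X₂ ω a)) ∧
    ∀ b, N ≤ b + A → b < N → Subsingleton (Ext O S.X₂ b)

variable {tr}

/-- One step of the induction. -/
theorem step (a a' b b' : ℕ) (h : b + a = N) (h' : b' + a' = N) (ha : 1 + a' = a) (hb : b + 1 = b')
    {S : ShortComplex C} (hS : S.ShortExact)
    (h₁ : Function.Bijective (pair tr a' b' h' S.X₁)) (h₂ : Function.Surjective (pair tr a' b' h' S.X₂))
    (hω : Subsingleton (Ext S.X₂ ω a)) (hO : Subsingleton (Ext O S.X₂ b)) :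
    Function.Bijective (pair tr a b h S.X₃) := by
  let f : Ext O S.X₃ b →ₗ[k] Ext O S.X₁ b' := Ext.postcompOfLinear hS.extClass k O hb
  have hfa : ∀ x, f x = x.comp hS.extClass hb := fun x => rfl
  constructor
  · rw [injective_iff_map_eq_zero]
    intro e he
    obtain ⟨e', rfl⟩ := Ext.contravariant_sequence_exact₃ hS ω e (hω.elim _ _) ha
    -- `D(e')` vanishes on the image of `Ext^b(O, X₃)`
    have h3 : ∀ x : Ext O S.X₃ b, pair tr a' b' h' S.X₁ e' (x.comp hS.extClass hb) = 0 := by
      intro x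
      rw [← pair_extClass tr a a' b b' h h' ha hb hS e' x, he]
      rfl
    let i : Ext O S.X₁ b' →ₗ[k] Ext O S.X₂ b' := Ext.postcompOfLinear (Ext.mk₀ S.f) k O (add_zero b')
    have hia : ∀ x, i x = x.comp (Ext.mk₀ S.f) (add_zero b') := fun x => rfl
    have h4 : LinearMap.ker i ≤ LinearMap.ker (pair tr a' b' h' S.X₁ e') := by
      intro y hy
      obtain ⟨x, rfl⟩ := Ext.covariant_sequence_exact₁ O hS y hy hb
      exact h3 x
    obtain ⟨l, hl⟩ : ∃ l : Ext O S.X₂ b' →ₗ[k] k, l ∘ₗ i = pair tr a' b' h' S.X₁ e' := by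
      obtain ⟨p, hp⟩ := (LinearMap.ker i).exists_isCompl
      have h5 := LinearMap.exists_extend (p := LinearMap.range i)
        (((LinearMap.ker i).liftQ (pair tr a' b' h' S.X₁ e') h4) ∘ₗ i.quotKerEquivRange.symm.toLinearMap)
      obtain ⟨l, hl⟩ := h5
      refine ⟨l, LinearMap.ext fun x => ?_⟩
      have h6 := LinearMap.congr_fun hl ⟨i x, LinearMap.mem_range_self i x⟩
      rw [LinearMap.comp_apply] at h6
      rw [LinearMap.comp_apply]
      refine Eq.trans h6 ?_
      rw [LinearMap.comp_apply]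
      have h7 : i.quotKerEquivRange.symm.toLinearMap ⟨i x, LinearMap.mem_range_self i x⟩ =
          (LinearMap.ker i).mkQ x := LinearMap.quotKerEquivRange_symm_apply_image i x _
      rw [h7]
      exact Submodule.liftQ_apply _ _ _
    obtain ⟨e'', rfl⟩ := h₂ l
    have h8 : pair tr a' b' h' S.X₁ ((Ext.mk₀ S.f).comp e'' (zero_add a')) = pair tr a' b' h' S.X₁ e' := by
      rw [← hl]
      refine LinearMap.ext fun x => ?_
      rw [pair_mk₀]
      rfl
    rw [← h₁.1 h8, hS.extClass_comp_assoc]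
  · intro l
    have hf : Function.Injective f := by
      rw [injective_iff_map_eq_zero]
      intro x hx
      obtain ⟨y, rfl⟩ := Ext.covariant_sequence_exact₃ O hS x hb hx
      rw [hO.elim y 0, Ext.zero_comp]
    obtain ⟨g, hg⟩ := LinearMap.exists_leftInverse_of_injective f (LinearMap.ker_eq_bot.mpr hf)
    obtain ⟨e', he'⟩ := h₁.2 (l ∘ₗ g)
    refine ⟨hS.extClass.comp e' ha, LinearMap.ext fun x => ?_⟩
    rw [pair_extClass tr a a' b b' h h' ha hb hS e' x, he']
    change l (g (f x)) = l x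
    rw [show g (f x) = x from LinearMap.congr_fun hg x]

/-- **Duality in a range**: if `Hom(G, ω) → Ext^N(O, G)^*` is bijective for `G` in `P`, then so is
`Ext^a(G, ω) → Ext^b(O, G)^*` for `a + b = N`, `a ≤ A`. -/
theorem bijective (P : C → Prop) (A : ℕ) (hres : ∀ G, P G → HasRes P O ω N A G)
    (h0 : ∀ G, P G → Function.Bijective (pair tr 0 N (add_zero N) G)) (a : ℕ) :
    ∀ (b : ℕ) (h : b + a = N) (_ : a ≤ A) (G : C) (_ : P G), Function.Bijective (pair tr a b h G) := by
  induction a with
  | zero =>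
    intro b h _ G hG
    obtain rfl : b = N := by omega
    exact h0 G hG
  | succ a ih =>
    intro b h hA G hG
    obtain ⟨S, hS, rfl, h₁, h₂, hω, hO⟩ := hres G hG
    exact step (a + 1) a b (b + 1) h (by omega) (by omega) rfl hS (ih (b + 1) (by omega) (by omega) _ h₁)
      (ih (b + 1) (by omega) (by omega) _ h₂).2 (hω (a + 1) (by omega) hA) (hO b (by omega) (by omega))

/-- `Ext^a(G, ω) = 0` for `a > N`. -/
theorem subsingleton_of_lt (P : C → Prop) (hres : ∀ A G, P G → HasRes P O ω N A G)
    (h0 : ∀ G, P G → Function.Bijective (pair tr 0 N (add_zero N) G)) (a : ℕ) :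
    N < a → ∀ G, P G → Subsingleton (Ext G ω a) := by
  induction a with
  | zero => intro h; omega
  | succ a ih =>
    intro ha G hG
    obtain ⟨S, hS, rfl, h₁, h₂, hω, hO⟩ := hres (a + 1) G hG
    have hω' := hω (a + 1) (by omega) le_rfl
    refine subsingleton_of_forall_eq 0 fun e => ?_
    obtain ⟨e', rfl⟩ := Ext.contravariant_sequence_exact₃ hS ω e (hω'.elim _ _) (show 1 + a = a + 1 by omega)
    rcases Nat.lt_or_ge N a with hlt | hge
    · have := ih hlt _ h₁
      rw [this.elim e' 0, Ext.comp_zero]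
    · obtain rfl : a = N := by omega
      have b₁ := bijective (tr := tr) P a (fun G hG => hres a G hG) h0 a 0 (zero_add a) le_rfl _ h₁
      have b₂ := bijective (tr := tr) P a (fun G hG => hres a G hG) h0 a 0 (zero_add a) le_rfl _ h₂
      -- `Ext^0(O, X₁) → Ext^0(O, X₂)` is injective, hence `Ext^N(X₂, ω) → Ext^N(X₁, ω)` is surjective
      let i : Ext O S.X₁ 0 →ₗ[k] Ext O S.X₂ 0 := Ext.postcompOfLinear (Ext.mk₀ S.f) k O (add_zero 0)
      have hi : Function.Injective i := by
        have := hS.mono_f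
        exact Ext.postcomp_mk₀_injective_of_mono O S.f
      obtain ⟨g, hg⟩ := LinearMap.exists_leftInverse_of_injective i (LinearMap.ker_eq_bot.mpr hi)
      obtain ⟨e'', he''⟩ := b₂.2 (pair tr a 0 (zero_add a) S.X₁ e' ∘ₗ g)
      have h8 : (Ext.mk₀ S.f).comp e'' (zero_add a) = e' := by
        apply b₁.1
        refine LinearMap.ext fun x => ?_
        rw [pair_mk₀, he'']
        change pair tr a 0 _ S.X₁ e' (g (i x)) = _
        rw [show g (i x) = x from LinearMap.congr_fun hg x]
      rw [← h8, hS.extClass_comp_assoc]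

end K274.YonedaDual
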