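import Groth.Agent.ProjDual.K274.TensLin
import Groth.Agent.ProjDual.K274.YonedaDual
import Groth.Agent.CycB.CohProp

/-!
# Serre duality in a range from duality in degree zero, for coherent modules

`X` is a Noetherian scheme over a field `k`, `ω` an `O_X`-module with `t : H^N(X, ω) → k` such that `(ω, t)` represents
`G ↦ H^N(X, G)^*` on coherent modules (`IsDualizing`).

* `hasRes_of_epi`: the resolution property of `YonedaDual` from surjections out of finite sums of acyclic modules;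
* `nonempty_equiv`: `Ext^i(F, ω) ≃ₗ H^{N-i}(X, F)^*` in a range;
* `subsingleton`: `Ext^i(F, ω) = 0` for `i > N`.
-/

set_option autoImplicit false
universe w u v

open CategoryTheory CategoryTheory.Limits AlgebraicGeometry Abelian

namespace K274.SerreRes

open Groth.Agent Groth.Agent.Sga2.PnHHDelta K274.YonedaDual

section Abelian

variable {C : Type u} [Category.{v} C] [Abelian C] [HasExt.{w} C] {J : Type} [Finite J] (L : J → C)
  [HasCoproduct L]

theorem subsingleton_ext_coproduct (M : C) (a : ℕ) (h : ∀ j, Subsingleton (Ext (L j) M a)) :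
    Subsingleton (Ext (∐ L) M a) := by
  classical
  have := Fintype.ofFinite J
  have : HasFiniteBiproducts C := Abelian.hasFiniteBiproducts
  have e := Ext.biproductAddEquiv (biproduct.isBilimit L) M a
  have h1 : Subsingleton (Ext (⨁ L) M a) := e.toEquiv.subsingleton
  refine ⟨fun x y => ?_⟩
  have h2 := h1.elim ((Ext.mk₀ (biproduct.isoCoproduct L).hom).comp x (zero_add a))
    ((Ext.mk₀ (biproduct.isoCoproduct L).hom).comp y (zero_add a))
  have h3 := congrArg (fun z => (Ext.mk₀ (biproduct.isoCoproduct L).inv).comp z (zero_add a)) h2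
  simpa only [Ext.mk₀_comp_mk₀_assoc, Iso.inv_hom_id, Ext.mk₀_id_comp] using h3

theorem subsingleton_coproduct_ext (M : C) (a : ℕ) (h : ∀ j, Subsingleton (Ext M (L j) a)) :
    Subsingleton (Ext M (∐ L) a) := by
  classical
  have := Fintype.ofFinite J
  have : HasFiniteBiproducts C := Abelian.hasFiniteBiproducts
  have e := Ext.addEquivBiproduct M (biproduct.isBilimit L) a
  have h1 : Subsingleton (Ext M (⨁ L) a) := e.toEquiv.subsingleton
  refine ⟨fun x y => ?_⟩
  have h2 := h1.elim (x.comp (Ext.mk₀ (biproduct.isoCoproduct L).inv) (add_zero a))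
    (y.comp (Ext.mk₀ (biproduct.isoCoproduct L).inv) (add_zero a))
  have h3 := congrArg (fun z => z.comp (Ext.mk₀ (biproduct.isoCoproduct L).hom) (add_zero a)) h2
  simpa only [Ext.comp_assoc_of_third_deg_zero, Ext.mk₀_comp_mk₀, Iso.inv_hom_id, Ext.comp_mk₀_id] using h3

end Abelian

section Res

variable {X : Scheme.{u}} [IsLocallyNoetherian X] [HasExt.{w} X.Modules]

theorem hasRes_of_epi {O ω : X.Modules} {N A : ℕ} {J : Type} [Finite J] (L : J → X.Modules)
    (hL : ∀ j, Coh.IsCoh (L j)) {G : X.Modules} (hG : Coh.IsCoh G) (φ : (∐ L) ⟶ G) [Epi φ]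
    (hω : ∀ j a, 0 < a → a ≤ A → Subsingleton (Ext.{w} (L j) ω a))
    (hO : ∀ j b, N ≤ b + A → b < N → Subsingleton (Ext.{w} O (L j) b)) :
    HasRes (fun G => Coh.IsCoh G) O ω N A G :=
  ⟨ShortComplex.mk (kernel.ι φ) φ (kernel.condition φ),
    { exact := ShortComplex.exact_of_f_is_kernel _ (kernelIsKernel φ) }, rfl,
    CycB.CohProp.isCoh_kernel φ (CycB.CohProp.isCoh_finite_coproduct L hL) hG,
    CycB.CohProp.isCoh_finite_coproduct L hL,
    fun a h0 ha => subsingleton_ext_coproduct L ω a fun j => hω j a h0 ha,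
    fun b hb hbN => subsingleton_coproduct_ext L O b fun j => hO j b hb hbN⟩

end Res

section Duality

variable {k : Type u} [Field k] {X : Scheme.{u}} [X.Over (Spec (CommRingCat.of k))] [HasExt.{w} X.Modules] {N : ℕ}
  {ω : X.Modules}

variable (k) in
/-- `(ω, t)` represents `G ↦ H^N(X, G)^*` on coherent modules. -/
def IsDualizing (N : ℕ) (ω : X.Modules) (t : (hF k X N).obj ω →ₗ[k] k) : Prop :=
  ∀ G : X.Modules, Coh.IsCoh G → ∀ ψ : (hF k X N).obj G →ₗ[k] k,
    ∃! φ : G ⟶ ω, ∀ x : (hF k X N).obj G, ψ x = t (((hF k X N).map φ).hom x)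

/-- The linear form on `Ext^N(O_X, ω)`. -/
noncomputable def trE (t : (hF k X N).obj ω →ₗ[k] k) : Ext.{w} (Coh.structureModule X) ω N →ₗ[k] k :=
  t ∘ₗ (ExtLin.eH k ω N).toLinearMap

theorem pair_mk₀_apply (t : (hF k X N).obj ω →ₗ[k] k) {G : X.Modules} (φ : G ⟶ ω)
    (x : Ext.{w} (Coh.structureModule X) G N) :
    pair (trE t) 0 N (add_zero N) G (Ext.mk₀ φ) x = t (((hF k X N).map φ).hom (ExtLin.eH k G N x)) := by
  rw [pair_apply, ← ExtLin.eH_comp_mk₀]
  rfl

theorem bijective_zero {t : (hF k X N).obj ω →ₗ[k] k} (ht : IsDualizing k N ω t) (G : X.Modules)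
    (hG : Coh.IsCoh G) : Function.Bijective (pair (C := X.Modules) (trE.{w} t) 0 N (add_zero N) G) := by
  constructor
  · rw [injective_iff_map_eq_zero]
    intro e he
    obtain ⟨φ, rfl⟩ := (Ext.mk₀_bijective G ω).2 e
    obtain ⟨φ₀, -, h2⟩ := ht G hG 0
    have h3 : φ = φ₀ := h2 φ fun x => by
      obtain ⟨y, rfl⟩ := (ExtLin.eH.{w} k G N).surjective x
      rw [← pair_mk₀_apply, he]
      rfl
    have h4 : (0 : G ⟶ ω) = φ₀ := h2 0 fun x => by
      rw [Functor.map_zero]
      exact (map_zero t).symm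
    rw [h3, ← h4, Ext.mk₀_zero]
  · intro l
    obtain ⟨φ, h1, -⟩ := ht G hG (l ∘ₗ (ExtLin.eH.{w} k G N).symm.toLinearMap)
    refine ⟨Ext.mk₀ φ, LinearMap.ext fun x => ?_⟩
    rw [pair_mk₀_apply, ← h1]
    exact congrArg l ((ExtLin.eH.{w} k G N).symm_apply_apply x)

/-- **Duality in a range.** -/
theorem nonempty_equiv {t : (hF k X N).obj ω →ₗ[k] k} (ht : IsDualizing k N ω t) (A : ℕ)
    (hres : ∀ G : X.Modules, Coh.IsCoh G →
      HasRes.{w} (fun G => Coh.IsCoh G) (Coh.structureModule X) ω N A G) (F : X.Modules) (hF' : Coh.IsCoh F)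
    (i : ℕ) (hi : i ≤ N) (hiA : i ≤ A) :
    Nonempty (Ext.{w} F ω i ≃ₗ[k] Module.Dual k ((hF k X (N - i)).obj F)) :=
  ⟨(LinearEquiv.ofBijective _ (bijective (tr := trE.{w} t) (fun G => Coh.IsCoh G) A hres (bijective_zero ht) i (N - i)
    (Nat.sub_add_cancel hi) hiA F hF')).trans (ExtLin.eH.{w} k F (N - i)).symm.dualMap⟩

/-- **Vanishing.** -/
theorem subsingleton {t : (hF k X N).obj ω →ₗ[k] k} (ht : IsDualizing k N ω t)
    (hres : ∀ (A : ℕ) (G : X.Modules), Coh.IsCoh G →
      HasRes.{w} (fun G => Coh.IsCoh G) (Coh.structureModule X) ω N A G) (F : X.Modules) (hF' : Coh.IsCoh F)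
    (i : ℕ) (hi : N < i) : Subsingleton (Ext.{w} F ω i) :=
  subsingleton_of_lt (tr := trE.{w} t) (fun G => Coh.IsCoh G) hres (bijective_zero ht) i hi F hF'

end Duality

end K274.SerreRes
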