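import Groth.Agent.Coherent.K54.HodgePn
import Groth.Agent.PerfB.TwistDer

/-!
# The sheaf of top forms on projective space

* `nonempty_iso`: an `n`-th exterior power of `Ω` on `P^n_A` is isomorphic to `O(-n-1)`.
-/

set_option autoImplicit false
universe u

open CategoryTheory CategoryTheory.Limits AlgebraicGeometry

namespace K274.TopForms

open Groth.Agent Groth.Agent.PerfB.TwistDer K54.HodgePn

attribute [local instance] Abelian.hasFiniteBiproducts

variable (n : ℕ) (A : Type u) [CommRing A]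

/-- `Λ^r (O(-1)^r) ≅ O(-r)`. -/
theorem nonempty_iso_E (r : ℕ) : ∀ (L : (CohB1.ProjSpace n A).Modules) (_ : ExtPow.IsExtPow r (E n A r) L),
    Nonempty (L ≅ tw n A (-(r : ℤ))) := by
  induction r with
  | zero =>
    intro L hL
    obtain ⟨e⟩ := Sga67.TensorOps.nonempty_iso_of_isExtPow (Iso.refl _) hL (Sga67.TensorOps.isExtPow_zero _)
    exact ⟨e ≪≫ twZero n A⟩
  | succ r ih =>
    intro L hL
    obtain ⟨L', hL'⟩ := Dual.H366.ExtQCoh.exists_isExtPow (r + 1) (isQCoh_E n A r)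
    obtain ⟨K, hK⟩ := Dual.H366.ExtQCoh.exists_isExtPow r (isQCoh_E n A r)
    obtain ⟨j, k, w, hS⟩ := K54.ExtSes.exists_ses
      (shortExact_seq (fun _ : Fin (r + 1) => Twist.twistProjSpace n A (-1))) (rank_one n A (-1)) hL' hL hK
    have h0 : IsZero L' := Krr.H502.KosZero.isZero_of_isExtPow (rank_E n A r) hL' (Nat.lt_succ_self r)
    have h1 : Mono k := hS.exact.mono_g (h0.eq_of_src _ _)
    have h2 : Epi k := hS.epi_g
    have h3 : IsIso k := isIso_of_mono_of_epi k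
    obtain ⟨e⟩ := ih K hK
    exact ⟨asIso k ≪≫ Ega2.Tens.mapTIso e (Iso.refl _) ≪≫ twMul n A (-(r : ℤ)) (-1) _ (by push_cast; ring)⟩

/-- The top forms on `P^n`. -/
theorem nonempty_iso (L : (CohB1.ProjSpace n A).Modules)
    (hL : ExtPow.IsExtPow n (Omega.sheaf (CohB1.ProjSpace.toSpec n A)) L) :
    Nonempty (L ≅ tw n A (-((n : ℤ) + 1))) := by
  obtain ⟨L', hL'⟩ := exists_extPow_omega n A (n + 1)
  obtain ⟨M, hM⟩ := Dual.H366.ExtQCoh.exists_isExtPow (n + 1) (isQCoh_E n A (n + 1))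
  obtain ⟨j, k, w, hS⟩ := K54.ExtSes.exists_ses (K54.Euler.shortExact n A) (rank_one n A 0) hL' hM hL
  have h0 : IsZero L' := isZero_of_lt hL' (Nat.lt_succ_self n)
  have h1 : Mono k := hS.exact.mono_g (h0.eq_of_src _ _)
  have h2 : Epi k := hS.epi_g
  have h3 : IsIso k := isIso_of_mono_of_epi k
  obtain ⟨e⟩ := nonempty_iso_E n A (n + 1) M hM
  exact ⟨(Ega2.Tens.runit L).symm ≪≫ Ega2.Tens.mapTIso (Iso.refl L) (twZero n A) ≪≫ (asIso k).symm ≪≫ e ≪≫
    eqToIso (by push_cast; rfl)⟩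

end K274.TopForms
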