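import Groth.Agent.S11906
import Groth.Agent.ProjDual.K274.TopForms
import Groth.Agent.ProjDual.K274.CMDual
import Groth.Agent.ProjDual.K274.PnDual
import Groth.Agent.Variety.K658.RelDimComp
import Groth.Agent.Lefpen.H705.ClosedPoint
import Groth.Agent.Sga5.ProjSmooth
import Groth.Agent.Ega4A.RegCM
import Groth.Agent.Coherent.K50.SectOn

/-!
# Serre duality on smooth projective schemes

`X` is smooth of relative dimension `n` over `k`, closed in `P^r_k`, `L` an `n`-th exterior power of `Ω_{X/k}`.

* `exists_isDualizing`: `L` is dualizing;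
* `nonempty_equiv`: `Ext^i(F, L) ≃ₗ H^{n-i}(X, F)^*`, `F` coherent.
-/

set_option autoImplicit false
universe w u

open CategoryTheory CategoryTheory.Limits AlgebraicGeometry Abelian

namespace K274.SmoothDual

open Groth.Agent Groth.Agent.Sga2.PnHHDelta K274.PnSerre K274.SerreRes

variable (k : Type u) [Field k] (n r : ℕ) (X : Scheme.{u}) [X.Over (Spec (CommRingCat.of k))]
  [SmoothOfRelativeDimension n (X ↘ Spec (CommRingCat.of k))] (ι : X ⟶ CohB1.ProjSpace r k)
  [IsClosedImmersion ι] (hι : ι ≫ CohB1.ProjSpace.toSpec r k = X ↘ Spec (CommRingCat.of k))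

/-- `dim P^r_k = r` -/
theorem dim_projSpace [Nonempty (CohB1.ProjSpace r k)] :
    topologicalKrullDim (CohB1.ProjSpace r k) = (r : WithBot ℕ∞) :=
  K658.RelDimComp.topologicalKrullDim_eq r (CohB1.ProjSpace.toSpec r k)

include ι in
theorem le_of_nonempty [Nonempty X] : n ≤ r := by
  have h1 := K658.RelDimComp.topologicalKrullDim_eq n (X ↘ Spec (CommRingCat.of k))
  have : Nonempty (CohB1.ProjSpace r k) := ⟨ι (Classical.arbitrary X)⟩
  have h2 : topologicalKrullDim X ≤ topologicalKrullDim (CohB1.ProjSpace r k) :=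
    (Scheme.Hom.isClosedEmbedding ι).isInducing.topologicalKrullDim_le
  rw [h1, dim_projSpace] at h2
  exact_mod_cast h2

include k in
/-- The local rings at closed points are Cohen–Macaulay of dimension `n`. -/
theorem le_depth (x : X) (hx : IsClosed ({x} : Set X)) :
    (n : ℕ∞) ≤ LocCoh.depth (X.presheaf.stalk x) (X.presheaf.stalk x) := by
  have hs : Smooth (X ↘ Spec (CommRingCat.of k)) := SmoothOfRelativeDimension.smooth n _
  have := Lefpen.H705.ClosedPoint.isRegularLocalRing_stalk (X ↘ Spec (CommRingCat.of k)) x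
  have h1 := Ega4A.RegCM.isCohenMacaulayLocalRing_of_isRegularLocalRing (X.presheaf.stalk x)
  have h3 := h1.supportDim_eq_depth
  rw [Module.supportDim_self_eq_ringKrullDim,
    Lefpen.H705.ClosedPoint.ringKrullDim_stalk (X ↘ Spec (CommRingCat.of k)) n x hx] at h3
  exact_mod_cast h3.le

variable (L : X.Modules) (hL : ExtPow.IsExtPow n (Omega.sheaf (X ↘ Spec (CommRingCat.of k))) L)

include hι hL in
/-- The top forms are the Ext sheaf. -/
theorem nonempty_push_iso
    [ModSite.HasSheafHom (O := (CohB1.ProjSpace r k).sheaf)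
      ((Scheme.Modules.pushforward ι).obj (Coh.structureModule X))]
    [HasInjectiveResolutions (ModSite.Mod (CohB1.ProjSpace r k).sheaf)] :
    Nonempty ((Scheme.Modules.pushforward ι).obj L ≅
      (ModSite.extSh (O := (CohB1.ProjSpace r k).sheaf)
        ((Scheme.Modules.pushforward ι).obj (Coh.structureModule X)) (r - n)).obj (om k r)) := by
  obtain ⟨ΩP, hΩP⟩ := K54.HodgePn.exists_extPow_omega r k r
  obtain ⟨e⟩ := S11906.result (Spec (CommRingCat.of k)) (CohB1.ProjSpace r k) X (CohB1.ProjSpace.toSpec r k)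
    (X ↘ Spec (CommRingCat.of k)) ι hι r n ΩP hΩP L hL
  obtain ⟨e'⟩ := TopForms.nonempty_iso r k ΩP hΩP
  exact ⟨e ≪≫ (ModSite.extSh (O := (CohB1.ProjSpace r k).sheaf)
        ((Scheme.Modules.pushforward ι).obj (Coh.structureModule X)) (r - n)).mapIso e'⟩

include hι hL in
/-- The top forms are dualizing. -/
theorem exists_isDualizing [Nonempty X] : ∃ t : (hF k X n).obj L →ₗ[k] k, IsDualizing k n L t := by
  have := K50.SectOn.hasSheafHom (X := CohB1.ProjSpace r k)
    ((Scheme.Modules.pushforward ι).obj (Coh.structureModule X))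
  have := CurvesC.ExtUnit.enoughInjectives_modules (CohB1.ProjSpace r k)
  have : HasInjectiveResolutions (ModSite.Mod (CohB1.ProjSpace r k).sheaf) :=
    inferInstanceAs (HasInjectiveResolutions (CohB1.ProjSpace r k).Modules)
  exact PnDual.exists_dualizing k r n (le_of_nonempty k n r X ι) X ι hι
    (K658.RelDimComp.topologicalKrullDim_eq n (X ↘ Spec (CommRingCat.of k))).le L
    (nonempty_push_iso k n r X ι hι L hL)

include ι hι hL in
theorem isCoh : Coh.IsCoh L := by
  have h1 : QuasiSeparated (X ↘ Spec (CommRingCat.of k)) := by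
    rw [← hι]
    infer_instance
  have hΩ := Vancyc.H878.OmegaRank.isFinLocFreeOfRank_omega n (X ↘ Spec (CommRingCat.of k))
  exact PerfA.CohSerre.isCoh_of_isFinLocFree
    (Sga67.LocBasis.isFinLocFree_of_isExtPow (Ega2.QCohLocal.isFinLocFree_of_rank hΩ) hL)

include hι hL in
/-- **Serre duality.** -/
theorem nonempty_equiv [Nonempty X] [HasExt.{w} X.Modules] (F : X.Modules) (hF' : Coh.IsCoh F) (i : ℕ) (hi : i ≤ n) :
    Nonempty (Ext.{w} F L i ≃ₗ[k] Module.Dual k ((hF k X (n - i)).obj F)) := by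
  obtain ⟨t, ht⟩ := exists_isDualizing k n r X ι hι L hL
  obtain ⟨q₀, hq₀⟩ := (CMDual.exists_van_iff k r ι n).mpr (le_depth k n X)
  exact SerreRes.nonempty_equiv ht i
    (fun G hG => CMDual.hasRes k r ι n (isCoh k n r X ι hι L hL) i ⟨q₀, fun q hq j _ hj => hq₀ q hq j hj⟩ G hG) F hF' i hi
    le_rfl

end K274.SmoothDual
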